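import Cfsg.Agent.PGroup.Commutator
import Mathlib.GroupTheory.SpecificGroups.Cyclic
import Mathlib.NumberTheory.Basic
import Mathlib.FieldTheory.Finite.Basic

/-!
Small power computations used for rank two resistance.
-/

set_option autoImplicit false

namespace CfsgLib.Fus.RankTwoResistant

open scoped commutatorElement

variable {G : Type*} [Group G] {p : ℕ} [Fact p.Prime]

/-- An endomorphism of a cyclic `p`-group fixing a nontrivial element has `p`-power order. -/
theorem iterate_card_eq {D : Type*} [Group D] [Finite D] [IsCyclic D] (hD : IsPGroup p D) (σ : D →* D)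
    {z : D} (hz : z ≠ 1) (hσ : σ z = z) (d : D) : σ^[Nat.card D] d = d := by
  obtain ⟨m, hm⟩ := σ.map_cyclic
  obtain ⟨n, hn⟩ := IsPGroup.iff_card.1 hD
  have hit : ∀ (j : ℕ) (x : D), σ^[j] x = x ^ m ^ j := by
    intro j
    induction j with
    | zero => intro x; simp
    | succ j ih =>
      intro x
      rw [Function.iterate_succ_apply', ih, hm, ← zpow_mul, pow_succ]
  have h1 : (orderOf z : ℤ) ∣ m - 1 := by
    rw [orderOf_dvd_iff_zpow_eq_one, zpow_sub, zpow_one, ← hm, hσ, mul_inv_cancel]
  have h2 : (p : ℤ) ∣ m - 1 := by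
    refine dvd_trans ?_ h1
    obtain ⟨k, -, hk⟩ := (Nat.dvd_prime_pow (Fact.out : p.Prime)).1 (hn ▸ orderOf_dvd_natCard z)
    rcases k with _ | k
    · exact absurd (orderOf_eq_one_iff.1 (by rw [hk, pow_zero])) hz
    · rw [hk]
      exact_mod_cast dvd_pow_self p (Nat.succ_ne_zero k)
  have h3 := dvd_sub_pow_of_dvd_sub h2 n
  rw [one_pow] at h3
  have h4 : d ^ (m ^ p ^ n - 1) = 1 := by
    refine orderOf_dvd_iff_zpow_eq_one.1 (dvd_trans ?_ h3)
    have : orderOf d ∣ p ^ (n + 1) := (hn ▸ orderOf_dvd_natCard d).trans (pow_dvd_pow p (by omega))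
    exact_mod_cast this
  rw [hit, hn]
  rwa [zpow_sub, zpow_one, mul_inv_eq_one] at h4

theorem pow_natCast_eq {e : G} (he : e ^ p = 1) (n : ℕ) : e ^ n = e ^ (n : ZMod p).val := by
  rw [ZMod.val_natCast, ← pow_eq_pow_mod n he]

theorem eq_of_pow_val_eq {e : G} (he : e ^ p = 1) (he1 : e ≠ 1) {a b : ZMod p}
    (h : e ^ a.val = e ^ b.val) : a = b := by
  have ho : orderOf e = p := orderOf_eq_prime he he1
  rw [pow_eq_pow_iff_modEq, ho] at h
  have h2 := (ZMod.natCast_eq_natCast_iff _ _ p).2 h
  rwa [ZMod.natCast_zmod_val, ZMod.natCast_zmod_val] at h2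

theorem mem_zpowers_iff_val {e x : G} (he : e ^ p = 1) :
    x ∈ Subgroup.zpowers e ↔ ∃ a : ZMod p, x = e ^ a.val := by
  constructor
  · rintro ⟨k, rfl⟩
    refine ⟨(k : ZMod p), ?_⟩
    show e ^ k = e ^ (k : ZMod p).val
    rw [← zpow_natCast, ZMod.val_intCast]
    exact zpow_eq_zpow_emod' k he
  · rintro ⟨a, rfl⟩
    exact pow_mem (Subgroup.mem_zpowers e) _

omit [Fact p.Prime] in
theorem commute_pow_left {u v z : G} (huv : u * v = z * v * u) (hzu : u * z = z * u) (n : ℕ) :
    u ^ n * v = z ^ n * v * u ^ n := by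
  induction n with
  | zero => simp
  | succ n ih =>
    calc u ^ (n + 1) * v = u * (u ^ n * v) := by rw [pow_succ', mul_assoc]
      _ = (u * z ^ n) * v * u ^ n := by rw [ih]; group
      _ = z ^ n * (u * v) * u ^ n := by rw [((show Commute u z from hzu).pow_right n).eq]; group
      _ = z ^ (n + 1) * v * u ^ (n + 1) := by rw [huv, pow_succ, pow_succ']; group

omit [Fact p.Prime] in
theorem commute_pow_right {u v z : G} (huv : u * v = z * v * u) (hzv : v * z = z * v) (n : ℕ) :
    u * v ^ n = z ^ n * v ^ n * u := by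
  induction n with
  | zero => simp
  | succ n ih =>
    calc u * v ^ (n + 1) = u * v ^ n * v := by rw [pow_succ, mul_assoc]
      _ = z ^ n * v ^ n * (u * v) := by rw [ih]; group
      _ = z ^ n * (v ^ n * z) * v * u := by rw [huv]; group
      _ = z ^ (n + 1) * v ^ (n + 1) * u := by
        rw [((show Commute v z from hzv).pow_left n).eq, pow_succ, pow_succ]; group

/-- Products of two elements of order `p` with central commutator of order `p`. -/
theorem mul_pow_eq_one (hp2 : p ≠ 2) {u v z : G} (huv : u * v = z * v * u) (hzu : u * z = z * u)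
    (hzv : v * z = z * v) (hu : u ^ p = 1) (hv : v ^ p = 1) (hz : z ^ p = 1) (a : ℕ) :
    (u ^ a * v) ^ p = 1 := by
  have hc : ⁅u ^ a, v⁆ = z ^ a := by
    rw [commutatorElement_def, commute_pow_left huv hzu, mul_inv_cancel_right, mul_inv_cancel_right]
  have hid := PGroup.mul_pow_mul_commutatorElement (a := u ^ a) (b := v)
    (by rw [hc]; exact ((show Commute z u from hzu.symm).pow_left a).pow_right a)
    (by rw [hc]; exact (show Commute z v from hzv.symm).pow_left a) p
  obtain ⟨m, hm⟩ := PGroup.dvd_choose_two_of_odd ((Fact.out : p.Prime).odd_of_ne_two hp2)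
  rw [hc, hm, pow_mul, pow_right_comm z a p, hz, one_pow, one_pow, mul_one, pow_right_comm, hu,
    one_pow, hv, mul_one] at hid
  exact hid

/-- An automorphism of a finite group preserving a set maps it onto itself. -/
theorem inv_invariant {E : Type*} [Group E] [Finite E] (h : MulAut E) {P : Set E}
    (hP : ∀ x ∈ P, h x ∈ P) : ∀ x ∈ P, h⁻¹ x ∈ P := by
  have : Finite (MulAut E) := Finite.of_injective (fun φ : MulAut E => (φ : E → E)) DFunLike.coe_injective
  have hpow : ∀ n : ℕ, ∀ x ∈ P, (h ^ n) x ∈ P := by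
    intro n
    induction n with
    | zero => intro x hx; simpa using hx
    | succ n ih =>
      intro x hx
      rw [pow_succ', MulAut.mul_apply]
      exact hP _ (ih x hx)
  have e : h⁻¹ = h ^ (orderOf h - 1) := by
    refine inv_eq_of_mul_eq_one_right ?_
    rw [← pow_succ', Nat.sub_add_cancel (orderOf_pos h), pow_orderOf_eq_one]
  intro x hx
  rw [e]
  exact hpow _ x hx

end CfsgLib.Fus.RankTwoResistant
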