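import Cfsg.Agent.PGroup.Critical
import Cfsg.Agent.PGroup.Commutator
import Cfsg.Agent.Fusion.Alperin.SmallOrder
import Mathlib.GroupTheory.Commutator.Basic

/-!
The small detector of a `p`-group, `p` odd, and its shape when the rank is at most two.
-/

set_option autoImplicit false

namespace CfsgLib.Fus.RankTwoResistant

open scoped commutatorElement

variable {p : ℕ} [Fact p.Prime]

/-- No elementary abelian subgroup of order more than `p ^ 2` inside `S`. -/
def RankTwo {Ω : Type*} [Group Ω] (p : ℕ) (S : Subgroup Ω) : Prop :=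
  ∀ A : Subgroup Ω, A ≤ S → (∀ a ∈ A, ∀ b ∈ A, a * b = b * a) → (∀ a ∈ A, a ^ p = 1) → Nat.card A ≤ p ^ 2

/-- In rank two an element of order `p` centralizing an elementary abelian subgroup of order `p ^ 2`
lies in it. -/
theorem mem_of_elementary {Ω : Type*} [Group Ω] {S A : Subgroup Ω} [Finite S] (hr : RankTwo p S)
    (hAS : A ≤ S) (hAc : ∀ a ∈ A, ∀ b ∈ A, a * b = b * a) (hAp : ∀ a ∈ A, a ^ p = 1)
    (hA : Nat.card A = p ^ 2) {y : Ω} (hyS : y ∈ S) (hy : y ^ p = 1)
    (hc : ∀ a ∈ A, a * y = y * a) : y ∈ A := by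
  set T := Subgroup.closure ((A : Set Ω) ∪ {y}) with hT
  have hgen : ∀ a ∈ (A : Set Ω) ∪ {y}, ∀ b ∈ (A : Set Ω) ∪ {y}, a * b = b * a := by
    rintro a (ha | rfl) b (hb | rfl)
    · exact hAc a ha b hb
    · exact hc a ha
    · exact (hc b hb).symm
    · rfl
  have hTc : IsMulCommutative T := Subgroup.isMulCommutative_closure hgen
  have hcomm : ∀ a ∈ T, ∀ b ∈ T, a * b = b * a := fun a ha b hb =>
    congrArg Subtype.val (hTc.is_comm.comm ⟨a, ha⟩ ⟨b, hb⟩)
  have hTS : T ≤ S := (Subgroup.closure_le _).2 (Set.union_subset hAS (Set.singleton_subset_iff.2 hyS))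
  have hTp : ∀ a ∈ T, a ^ p = 1 := by
    intro a ha
    induction ha using Subgroup.closure_induction with
    | mem x hx =>
      rcases hx with hx | rfl
      · exact hAp x hx
      · exact hy
    | one => exact one_pow p
    | mul x x' hx hx' h1 h2 =>
      rw [(show Commute x x' from hcomm x hx x' hx').mul_pow, h1, h2, one_mul]
    | inv x _ h1 => rw [inv_pow, h1, inv_one]
  have hAT : A ≤ T := fun a ha => Subgroup.subset_closure (Or.inl ha)
  have : Finite T := Finite.of_injective _ (Subgroup.inclusion_injective hTS)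
  have e : A = T := Subgroup.eq_of_le_of_card_ge hAT (hA ▸ hr T hTS hcomm hTp)
  rw [e]
  exact Subgroup.subset_closure (Or.inr rfl)

/-- Every finite `p`-group, `p` odd, has a characteristic subgroup of exponent `p` and class at most two
detecting the automorphisms of order prime to `p`. -/
theorem exists_detector {R : Type*} [Group R] [Finite R] (hR : IsPGroup p R) (hp : p ≠ 2) :
    ∃ C : Subgroup R, C.Characteristic ∧ (∀ x ∈ C, x ^ p = 1) ∧
      (∀ a ∈ C, ∀ b ∈ C, ∀ c ∈ C, ⁅a, b⁆ * c = c * ⁅a, b⁆) ∧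
      ∀ σ : MulAut R, (orderOf σ).Coprime p → (∀ c ∈ C, σ c = c) → σ = 1 := by
  obtain ⟨D, hD⟩ := PGroup.exists_criticalSubgroup (p := p) hR
  have hcl := hD.class_two
  have hmul : ∀ a b : D, a ^ p = 1 → b ^ p = 1 → (a * b) ^ p = 1 := by
    intro a b ha hb
    have hcp : ⁅a, b⁆ ^ p = 1 := by
      rw [← PGroup.commutatorElement_pow_left' hcl, commutatorElement_eq_one_iff_mul_comm]
      exact (Subgroup.mem_center_iff.1 (hD.pow_mem_center a) b).symm
    have hid := PGroup.mul_pow_mul_commutatorElement (PGroup.commute_commutatorElement hcl a b a)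
      (PGroup.commute_commutatorElement hcl a b b) p
    obtain ⟨m, hm⟩ := PGroup.dvd_choose_two_of_odd ((Fact.out : p.Prime).odd_of_ne_two hp)
    rw [hm, pow_mul, hcp, one_pow, ha, hb, mul_one, mul_one] at hid
    exact hid
  let C : Subgroup R :=
    { carrier := {x | x ∈ D ∧ x ^ p = 1}
      one_mem' := ⟨one_mem _, one_pow p⟩
      mul_mem' := fun {a b} ha hb => ⟨D.mul_mem ha.1 hb.1, congrArg Subtype.val
        (hmul ⟨a, ha.1⟩ ⟨b, hb.1⟩ (Subtype.ext ha.2) (Subtype.ext hb.2))⟩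
      inv_mem' := fun {a} ha => ⟨D.inv_mem ha.1, by rw [inv_pow, ha.2, inv_one]⟩ }
  have hDi : ∀ (φ : MulAut R), ∀ x ∈ D, φ x ∈ D := fun φ x hx =>
    (Subgroup.characteristic_iff_map_le.1 hD.characteristic φ) ⟨x, hx, rfl⟩
  refine ⟨C, Subgroup.characteristic_iff_map_le.2 fun φ => ?_, fun x hx => hx.2, ?_, ?_⟩
  · rintro _ ⟨x, hx, rfl⟩
    exact ⟨hDi φ x hx.1, by show φ x ^ p = 1; rw [← map_pow, hx.2, map_one]⟩
  · intro a ha b hb c hc
    exact (congrArg Subtype.val (Subgroup.mem_center_iff.1 (hcl ⟨a, ha.1⟩ ⟨b, hb.1⟩) ⟨c, hc.1⟩)).symm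
  · intro σ hσ hfix
    let σD : MulAut D := (σ.subgroupMap D).trans
      (MulEquiv.subgroupCongr (Subgroup.characteristic_iff_map_eq.1 hD.characteristic σ))
    have σD_apply : ∀ x : D, ((σD x : D) : R) = σ x := fun _ => rfl
    have key : ∀ (j : ℕ) (x : D), (((σD ^ j) x : D) : R) = (σ ^ j) x := by
      intro j x
      induction j with
      | zero => rfl
      | succ j ihj => rw [pow_succ', MulAut.mul_apply, σD_apply, ihj, pow_succ', MulAut.mul_apply]
    have hσD : σD = 1 := by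
      refine Fusion.Alperin.eq_one_of_fixes_small (q := p) (hR.to_subgroup D) hcl hD.pow_mem_center
        (Or.inl ⟨hp, rfl⟩) ?_ fun x hx => Subtype.ext ?_
      · refine hσ.coprime_dvd_left (orderOf_dvd_of_pow_eq_one (MulEquiv.ext fun x => Subtype.ext ?_))
        rw [key, pow_orderOf_eq_one]
        rfl
      · rw [σD_apply]
        exact hfix x ⟨x.2, congrArg Subtype.val hx⟩
    refine hD.aut_eq_one hR hσ fun c hc => ?_
    have h := σD_apply ⟨c, hc⟩
    rw [hσD] at h
    exact h.symm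

/-- The shape of the detector in rank two. -/
theorem detector_shape {Ω : Type*} [Group Ω] {S C : Subgroup Ω} [Finite S] (hS : IsPGroup p S)
    (hr : RankTwo p S) (hCS : C ≤ S) (hexp : ∀ x ∈ C, x ^ p = 1)
    (hcl : ∀ a ∈ C, ∀ b ∈ C, ∀ c ∈ C, ⁅a, b⁆ * c = c * ⁅a, b⁆) :
    ((∀ a ∈ C, ∀ b ∈ C, a * b = b * a) ∧ Nat.card C ≤ p ^ 2) ∨
      (Nat.card C = p ^ 3 ∧ Nat.card ((Subgroup.center C).map C.subtype) = p ∧
        ∀ a ∈ C, ∀ b ∈ C, ⁅a, b⁆ ∈ (Subgroup.center C).map C.subtype) := by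
  have hp : p.Prime := Fact.out
  by_cases hab : ∀ a ∈ C, ∀ b ∈ C, a * b = b * a
  · exact Or.inl ⟨hab, hr C hCS hab hexp⟩
  refine Or.inr ?_
  set Z := (Subgroup.center C).map C.subtype with hZdef
  have hZC : Z ≤ C := Subgroup.map_subtype_le _
  have hZc : ∀ z ∈ Z, ∀ c ∈ C, z * c = c * z := by
    rintro _ ⟨z, hz, rfl⟩ c hc
    exact (congrArg Subtype.val (Subgroup.mem_center_iff.1 hz ⟨c, hc⟩)).symm
  have hZmem : ∀ z ∈ C, (∀ c ∈ C, z * c = c * z) → z ∈ Z := fun z hz h =>
    ⟨⟨z, hz⟩, Subgroup.mem_center_iff.2 fun c => Subtype.ext (h c c.2).symm, rfl⟩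
  have hcomm : ∀ a ∈ C, ∀ b ∈ C, ⁅a, b⁆ ∈ Z := fun a ha b hb => hZmem _
    (C.mul_mem (C.mul_mem (C.mul_mem ha hb) (C.inv_mem ha)) (C.inv_mem hb)) (hcl a ha b hb)
  push Not at hab
  obtain ⟨x, hx, y, hy, hxy⟩ := hab
  have : Finite C := Finite.of_injective _ (Subgroup.inclusion_injective hCS)
  have : Finite Z := Finite.of_injective _ (Subgroup.inclusion_injective hZC)
  have hxZ : x ∉ Z := fun h => hxy (hZc x h y hy)
  -- `Z ⟨x⟩`
  set A := Z ⊔ Subgroup.zpowers x with hA
  have hZp : IsPGroup p Z := hS.to_le (hZC.trans hCS)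
  obtain ⟨i, hi⟩ := IsPGroup.iff_card.1 hZp
  have hi1 : 1 ≤ i := by
    by_contra h
    rw [show i = 0 by omega, pow_zero, Subgroup.card_eq_one] at hi
    exact hxy (commutatorElement_eq_one_iff_mul_comm.1 (Subgroup.mem_bot.1 (hi ▸ hcomm x hx y hy)))
  have hAC : A ≤ C := sup_le hZC (Subgroup.zpowers_le.2 hx)
  have : Finite A := Finite.of_injective _ (Subgroup.inclusion_injective hAC)
  have hAcomm : ∀ a ∈ A, ∀ b ∈ A, a * b = b * a := by
    have hgen : ∀ a ∈ (Z : Set Ω) ∪ {x}, ∀ b ∈ (Z : Set Ω) ∪ {x}, a * b = b * a := by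
      rintro a (ha | rfl) b (hb | rfl)
      · exact hZc a ha b (hZC hb)
      · exact hZc a ha _ hx
      · exact (hZc b hb _ hx).symm
      · rfl
    have h1 : A = Subgroup.closure ((Z : Set Ω) ∪ {x}) := by
      rw [Subgroup.closure_union, Subgroup.closure_eq, ← Subgroup.zpowers_eq_closure]
    have hc : IsMulCommutative A := h1 ▸ Subgroup.isMulCommutative_closure hgen
    exact fun a ha b hb => congrArg Subtype.val (hc.is_comm.comm ⟨a, ha⟩ ⟨b, hb⟩)
  obtain ⟨j, hj⟩ := IsPGroup.iff_card.1 (hS.to_le (hAC.trans hCS))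
  have hlt : Nat.card Z < Nat.card A := lt_of_not_ge fun h => hxZ
    ((Subgroup.eq_of_le_of_card_ge le_sup_left h).symm ▸
      (le_sup_right : Subgroup.zpowers x ≤ A) (Subgroup.mem_zpowers x))
  have hle := hr A (hAC.trans hCS) hAcomm fun a ha => hexp a (hAC ha)
  rw [hi, hj, Nat.pow_lt_pow_iff_right hp.one_lt] at hlt
  rw [hj, Nat.pow_le_pow_iff_right hp.one_lt] at hle
  have hi' : i = 1 := by omega
  have hj' : j = 2 := by omega
  subst hi' hj'
  rw [pow_one] at hi
  -- the commutator map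
  let f : C →* Z :=
    { toFun := fun c => ⟨⁅(c : Ω), x⁆, hcomm c c.2 x hx⟩
      map_one' := Subtype.ext (commutatorElement_one_left x)
      map_mul' := fun a b => Subtype.ext (by
        show ⁅((a * b : C) : Ω), x⁆ = ⁅(a : Ω), x⁆ * ⁅(b : Ω), x⁆
        have h1 : (a : Ω) * ⁅(b : Ω), x⁆ = ⁅(b : Ω), x⁆ * a := (hcl b b.2 x hx a a.2).symm
        have h2 := hcl a a.2 x hx _ (hZC (hcomm b b.2 x hx))
        rw [h2]
        calc ⁅((a * b : C) : Ω), x⁆ = a * ⁅(b : Ω), x⁆ * (a : Ω)⁻¹ * ⁅(a : Ω), x⁆ := by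
              simp only [Subgroup.coe_mul, commutatorElement_def]; group
          _ = _ := by rw [h1, mul_inv_cancel_right]) }
  have hker : f.ker.map C.subtype = A := by
    refine le_antisymm ?_ fun a ha => ⟨⟨a, hAC ha⟩, MonoidHom.mem_ker.2 (Subtype.ext ?_), rfl⟩
    · rintro _ ⟨c, hc, rfl⟩
      have hcx : (c : Ω) * x = x * c :=
        commutatorElement_eq_one_iff_mul_comm.1 (congrArg Subtype.val (MonoidHom.mem_ker.1 hc))
      refine mem_of_elementary hr (hAC.trans hCS) hAcomm (fun a ha => hexp a (hAC ha)) hj (hCS c.2)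
        (hexp c c.2) fun a ha => ?_
      have hcle : A ≤ Subgroup.centralizer ({(c : Ω)} : Set Ω) :=
        sup_le (fun z hz => Subgroup.mem_centralizer_singleton_iff.2 (hZc z hz c c.2))
          (Subgroup.zpowers_le.2 (Subgroup.mem_centralizer_singleton_iff.2 hcx.symm))
      exact Subgroup.mem_centralizer_singleton_iff.1 (hcle ha)
    · exact commutatorElement_eq_one_iff_mul_comm.2 (hAcomm a ha x
        ((le_sup_right : Subgroup.zpowers x ≤ A) (Subgroup.mem_zpowers x)))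
  have hf : f.range = ⊤ := by
    refine Subgroup.eq_top_of_card_eq _ ?_
    rcases (Nat.dvd_prime hp).1 (hi ▸ Subgroup.card_subgroup_dvd_card f.range) with h | h
    · exfalso
      have hy' : f ⟨y, hy⟩ ∈ f.range := ⟨_, rfl⟩
      rw [Subgroup.card_eq_one.1 h, Subgroup.mem_bot] at hy'
      exact hxy (commutatorElement_eq_one_iff_mul_comm.1 (congrArg Subtype.val hy')).symm
    · rw [h, hi]
  refine ⟨?_, hi, hcomm⟩
  have h := f.ker.card_mul_index
  rw [Subgroup.index_ker, hf, Subgroup.card_top, hi,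
    ← Subgroup.card_map_of_injective (f := C.subtype) C.subtype_injective, hker, hj] at h
  rw [← h, ← pow_succ]

end CfsgLib.Fus.RankTwoResistant
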