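import Cfsg.Agent.Fus.RankTwoResistant.Detector
import Cfsg.Agent.Fus.RankTwoResistant.CyclicPower
import Cfsg.Agent.PGroup.UniqueOrderP
import Cfsg.Agent.Fus.EssentialRankTwo
import Cfsg.Agent.Fus.Extension
import Cfsg.Agent.Fusion.Alperin.Theorem
import Mathlib.RingTheory.Int.Basic

/-!
An extraspecial exponent `p` subgroup times a cyclic central one, with a torus: the weights of the `p`-th power
of a normalizing element are incompatible.
-/

set_option autoImplicit false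
set_option maxHeartbeats 1000000

namespace CfsgLib.Fus.RankTwoResistant

open Cfsg Cfsg.FusionSystem CfsgLib.Fus CfsgLib.Fus.EssentialRankTwo

variable {Ω : Type*} [Group Ω] {S : Subgroup Ω} [Finite S] {p : ℕ} [Fact p.Prime]

/-- The configuration is impossible. -/
theorem false_of_weights (hS : IsPGroup p S) (hp2 : p ≠ 2) {F : Cfsg.FusionSystem S} (hF : F.IsSaturated p)
    (hr : RankTwo p S) {E : Subgroup Ω} (hEc : centralizerIn S E ≤ E) (hEn : F.IsFullyNormalized E)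
    (hES : E ≠ S) {u₁ u₂ z : Ω} (hu₁ : u₁ ∈ E) (hu₂ : u₂ ∈ E) (hu₁p : u₁ ^ p = 1) (hu₂p : u₂ ^ p = 1)
    (hz1 : z ≠ 1) (hzp : z ^ p = 1) (huv : u₁ * u₂ = z * u₂ * u₁)
    {D : Subgroup Ω} (hDE : D ≤ E) (hD : ∀ x ∈ E, (x ∈ D ↔ ∀ y ∈ E, x * y = y * x)) [IsCyclic D]
    (hzD : z ∈ D) (hgen : ∀ x ∈ E, ∃ a b : ZMod p, ∃ d ∈ D, x = u₁ ^ a.val * u₂ ^ b.val * d)
    (hN : ∀ x ∈ normalizerIn S E, x * u₁ * x⁻¹ * u₁⁻¹ ∈ Subgroup.zpowers z)
    {h : MulAut E} (hh : h ∈ F.autGroup E) {α β : ZMod p} (hα : α ≠ 0) (hβ : β * β ≠ 1) (hβ0 : β ≠ 0)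
    (hh₁ : (u₁ ^ α.val)⁻¹ * (h ⟨u₁, hu₁⟩ : Ω) ∈ Subgroup.zpowers z)
    (hh₂ : (u₂ ^ β.val)⁻¹ * (h ⟨u₂, hu₂⟩ : Ω) ∈ Subgroup.closure ({u₁, z} : Set Ω))
    (hαβ : α ≠ β ∨ D ≤ Subgroup.zpowers z) : False := by
  have hp : p.Prime := Fact.out
  have hES' : E ≤ S := hEn.1
  have : Finite E := finite_of_le hES'
  have : Finite (MulAut E) := finite_mulAut E
  have : Finite D := finite_of_le (hDE.trans hES')
  set N := normalizerIn S E with hNdef
  have hEN : E ≤ N := le_normalizerIn hES'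
  have hDcomm : ∀ d ∈ D, ∀ y ∈ E, d * y = y * d := fun d hd => (hD d (hDE hd)).1 hd
  have hzE : z ∈ E := hDE hzD
  have hu₁z : u₁ * z = z * u₁ := (hDcomm z hzD u₁ hu₁).symm
  have hu₂z : u₂ * z = z * u₂ := (hDcomm z hzD u₂ hu₂).symm
  have hcp := commute_pow_left huv hu₁z
  have hcp' := commute_pow_right huv hu₂z
  have hcomp : ∀ n k : ℕ, u₁ ^ n * u₂ ^ k = (z ^ k) ^ n * u₂ ^ k * u₁ ^ n := fun n k =>
    commute_pow_left (hcp' k) ((show Commute u₁ z from hu₁z).pow_right k).eq n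
  -- `⟨u₁⟩ D`
  have hind : ∀ {i j : ZMod p} {d d' : Ω}, d ∈ D → d' ∈ D → u₁ ^ i.val * d = u₁ ^ j.val * d' →
      i = j ∧ d = d' := by
    intro i j d d' hd hd' he
    have key : ∀ (k : ℕ) {c : Ω}, c ∈ D → u₁ ^ k * c * u₂ = z ^ k * u₂ * (u₁ ^ k * c) := by
      intro k c hc
      rw [mul_assoc, hDcomm c hc u₂ hu₂, ← mul_assoc, hcp, mul_assoc]
    have h1 := key i.val hd
    rw [he, key j.val hd', mul_left_inj, mul_left_inj] at h1
    have h2 := eq_of_pow_val_eq hzp hz1 h1.symm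
    subst h2
    exact ⟨rfl, mul_left_cancel he⟩
  let A1 : Subgroup Ω :=
    { carrier := {x | ∃ i : ZMod p, ∃ d ∈ D, x = u₁ ^ i.val * d}
      one_mem' := ⟨0, 1, D.one_mem, by simp⟩
      mul_mem' := by
        rintro _ _ ⟨i, d, hd, rfl⟩ ⟨j, d', hd', rfl⟩
        refine ⟨i + j, d * d', D.mul_mem hd hd', ?_⟩
        rw [pow_val_add hu₁p]
        exact (show Commute d (u₁ ^ j.val) from hDcomm d hd _ (pow_mem hu₁ _)).mul_mul_mul_comm _ _
      inv_mem' := by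
        rintro _ ⟨i, d, hd, rfl⟩
        refine ⟨-i, d⁻¹, D.inv_mem hd, inv_eq_of_mul_eq_one_right ?_⟩
        rw [(show Commute d (u₁ ^ (-i).val) from hDcomm d hd _ (pow_mem hu₁ _)).mul_mul_mul_comm,
          ← pow_val_add hu₁p]
        simp }
  have hA1E : A1 ≤ E := by
    rintro _ ⟨i, d, hd, rfl⟩
    exact mul_mem (pow_mem hu₁ _) (hDE hd)
  have hDA1 : D ≤ A1 := fun d hd => ⟨0, d, hd, by simp⟩
  have hu₁A1 : u₁ ∈ A1 := ⟨1, 1, D.one_mem, by simp [ZMod.val_one]⟩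
  -- the plane `A₀`
  set A0 := Subgroup.closure ({u₁, z} : Set Ω) with hA0
  have hA0E : A0 ≤ E := (Subgroup.closure_le _).2 (by
    rintro x (rfl | rfl)
    · exact hu₁
    · exact hzE)
  have hA0A1 : A0 ≤ A1 := (Subgroup.closure_le _).2 (by
    rintro x (rfl | rfl)
    · exact hu₁A1
    · exact hDA1 hzD)
  have hu₁A0 : u₁ ∈ A0 := Subgroup.subset_closure (by simp)
  have hzA0 : z ∈ A0 := Subgroup.subset_closure (by simp)
  have hA0c : ∀ a ∈ A0, ∀ b ∈ A0, a * b = b * a := by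
    have hc : IsMulCommutative A0 := Subgroup.isMulCommutative_closure (by
      rintro a (rfl | rfl) b (rfl | rfl) <;> first | rfl | exact hu₁z | exact hu₁z.symm)
    exact fun a ha b hb => congrArg Subtype.val (hc.is_comm.comm ⟨a, ha⟩ ⟨b, hb⟩)
  have hA0mem : ∀ {x : Ω}, x ∈ A0 ↔ ∃ i j : ZMod p, x = u₁ ^ i.val * z ^ j.val := by
    intro x
    refine ⟨fun hx => ?_, ?_⟩
    · induction hx using Subgroup.closure_induction with
      | mem x hx =>
        rcases hx with rfl | rfl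
        · exact ⟨1, 0, by simp [ZMod.val_one]⟩
        · exact ⟨0, 1, by simp [ZMod.val_one]⟩
      | one => exact ⟨0, 0, by simp⟩
      | mul x y _ _ hx hy =>
        obtain ⟨i, j, rfl⟩ := hx
        obtain ⟨k, l, rfl⟩ := hy
        refine ⟨i + k, j + l, ?_⟩
        rw [pow_val_add hu₁p, pow_val_add hzp]
        exact (((show Commute u₁ z from hu₁z).pow_pow k.val j.val).symm).mul_mul_mul_comm _ _
      | inv x _ hx =>
        obtain ⟨i, j, rfl⟩ := hx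
        refine ⟨-i, -j, inv_eq_of_mul_eq_one_right ?_⟩
        rw [(((show Commute u₁ z from hu₁z).pow_pow (-i).val j.val).symm).mul_mul_mul_comm,
          ← pow_val_add hu₁p, ← pow_val_add hzp]
        simp
    · rintro ⟨i, j, rfl⟩
      exact mul_mem (pow_mem hu₁A0 _) (pow_mem hzA0 _)
  have hA0p : ∀ a ∈ A0, a ^ p = 1 := by
    intro a ha
    obtain ⟨i, j, rfl⟩ := hA0mem.1 ha
    rw [((show Commute u₁ z from hu₁z).pow_pow _ _).mul_pow, pow_right_comm, hu₁p, one_pow,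
      pow_right_comm, hzp, one_pow, one_mul]
  have hA0card : Nat.card A0 = p ^ 2 := by
    rw [← Nat.card_congr (Equiv.ofBijective (fun v : ZMod p × ZMod p =>
      (⟨u₁ ^ v.1.val * z ^ v.2.val, hA0mem.2 ⟨_, _, rfl⟩⟩ : A0)) ⟨fun v w hvw => ?_, fun a => ?_⟩)]
    · rw [Nat.card_prod, Nat.card_zmod, pow_two]
    · obtain ⟨h1, h2⟩ := hind (pow_mem hzD _) (pow_mem hzD _) (congrArg Subtype.val hvw)
      exact Prod.ext h1 (eq_of_pow_val_eq hzp hz1 h2)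
    · obtain ⟨i, j, hij⟩ := hA0mem.1 a.2
      exact ⟨(i, j), Subtype.ext hij.symm⟩
  have hrank : ∀ {y : Ω}, y ∈ S → y ^ p = 1 → y * u₁ = u₁ * y → y * z = z * y → y ∈ A0 := by
    intro y hy hyp hy1 hyz
    refine mem_of_elementary hr (hA0E.trans hES') hA0c hA0p hA0card hy hyp fun a ha => ?_
    obtain ⟨i, j, rfl⟩ := hA0mem.1 ha
    exact (((show Commute y u₁ from hy1).pow_right _).mul_right ((show Commute y z from hyz).pow_right _)).eq.symm
  have hDp : ∀ {d : Ω}, d ∈ D → d ^ p = 1 → d ∈ Subgroup.zpowers z := by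
    intro d hd hdp
    obtain ⟨i, j, hij⟩ := hA0mem.1 (hrank (hES' (hDE hd)) hdp (hDcomm d hd u₁ hu₁) (hDcomm d hd z hzE))
    obtain ⟨-, hd'⟩ := hind (i := 0) (j := i) hd (pow_mem hzD j.val)
      (by rw [ZMod.val_zero, pow_zero, one_mul]; exact hij)
    exact hd' ▸ pow_mem (Subgroup.mem_zpowers z) _
  -- conjugation by `N`
  have hDN : ∀ {x d : Ω}, x ∈ N → d ∈ D → x * d * x⁻¹ ∈ D := by
    intro x d hx hd
    refine (hD _ (conj_mem_of_normalizer hx.2 (hDE hd))).2 fun y hy => ?_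
    have hy' : x⁻¹ * y * x ∈ E := (Subgroup.mem_normalizer_iff''.1 hx.2 y).1 hy
    calc x * d * x⁻¹ * y = x * (d * (x⁻¹ * y * x)) * x⁻¹ := by group
      _ = x * ((x⁻¹ * y * x) * d) * x⁻¹ := by rw [hDcomm d hd _ hy']
      _ = y * (x * d * x⁻¹) := by group
  have hzfix : ∀ {x : Ω}, x ∈ N → x * z * x⁻¹ = z := by
    intro x hx
    obtain ⟨c, hc⟩ := (mem_zpowers_iff_val hzp).1
      (hDp (hDN hx hzD) (by rw [conj_pow, hzp, mul_one, mul_inv_cancel]))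
    have hit : ∀ n : ℕ, x ^ n * z * (x ^ n)⁻¹ = z ^ (c ^ n).val := by
      intro n
      induction n with
      | zero => simp [ZMod.val_one]
      | succ n ih =>
        calc x ^ (n + 1) * z * (x ^ (n + 1))⁻¹ = x * (x ^ n * z * (x ^ n)⁻¹) * x⁻¹ := by
              rw [pow_succ']; group
          _ = (x * z * x⁻¹) ^ (c ^ n).val := by rw [ih, conj_pow]
          _ = _ := by rw [hc, pow_succ', pow_val_mul hzp]
    obtain ⟨k, hk⟩ := hS ⟨x, hx.1⟩
    have h1 := hit (p ^ k)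
    rw [show x ^ p ^ k = 1 from congrArg Subtype.val hk, one_mul, inv_one, mul_one,
      ZMod.pow_card_pow] at h1
    rw [hc, ← h1]
  have hzcomm : ∀ {x : Ω}, x ∈ N → x * z = z * x := fun hx => mul_inv_eq_iff_eq_mul.1 (hzfix hx)
  have hconj₁ : ∀ {x : Ω}, x ∈ N → ∃ i : ZMod p, x * u₁ * x⁻¹ = u₁ * z ^ i.val := by
    intro x hx
    obtain ⟨i, hi⟩ := (mem_zpowers_iff_val hzp).1 (hN x hx)
    exact ⟨i, by rw [((show Commute u₁ z from hu₁z).pow_right _).eq, ← hi, inv_mul_cancel_right]⟩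
  have hconj₂ : ∀ {x : Ω}, x ∈ N → ∃ a l : ZMod p, x * u₂ * x⁻¹ = u₁ ^ a.val * u₂ * z ^ l.val := by
    intro x hx
    obtain ⟨a, b, d, hd, hxd⟩ := hgen _ (conj_mem_of_normalizer hx.2 hu₂)
    obtain ⟨i, hi⟩ := hconj₁ hx
    have hcomm2 : (x * u₁ * x⁻¹) * (x * u₂ * x⁻¹) = z * (x * u₂ * x⁻¹) * (x * u₁ * x⁻¹) := by
      calc (x * u₁ * x⁻¹) * (x * u₂ * x⁻¹) = x * (u₁ * u₂) * x⁻¹ := by group
        _ = x * z * x⁻¹ * (x * u₂ * x⁻¹) * (x * u₁ * x⁻¹) := by rw [huv]; group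
        _ = _ := by rw [hzfix hx]
    have hL : (x * u₁ * x⁻¹) * (x * u₂ * x⁻¹) = z ^ b.val * (x * u₂ * x⁻¹) * (x * u₁ * x⁻¹) := by
      rw [hi, hxd]
      have he1 : u₁ ^ a.val * u₂ ^ b.val * d ∈ E :=
        mul_mem (mul_mem (pow_mem hu₁ _) (pow_mem hu₂ _)) (hDE hd)
      calc u₁ * z ^ i.val * (u₁ ^ a.val * u₂ ^ b.val * d)
          = u₁ ^ a.val * (u₁ * u₂ ^ b.val) * (d * z ^ i.val) := by
            rw [mul_assoc u₁, hDcomm _ (pow_mem hzD _) _ he1, mul_assoc (u₁ ^ a.val * u₂ ^ b.val),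
              ← mul_assoc u₁, ← mul_assoc u₁, ((Commute.refl u₁).pow_right a.val).eq]
            group
        _ = (u₁ ^ a.val * z ^ b.val) * u₂ ^ b.val * (u₁ * d) * z ^ i.val := by rw [hcp']; group
        _ = z ^ b.val * (u₁ ^ a.val * u₂ ^ b.val * d) * (u₁ * z ^ i.val) := by
            rw [← hDcomm d hd u₁ hu₁, ← hDcomm _ (pow_mem hzD b.val) _ (pow_mem hu₁ a.val)]; group
    rw [hL, mul_left_inj, mul_left_inj] at hcomm2
    have hb : b = 1 := eq_of_pow_val_eq hzp hz1 (by rw [ZMod.val_one, pow_one]; exact hcomm2)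
    subst hb
    rw [ZMod.val_one, pow_one] at hxd
    have hdp : d ^ p = 1 := by
      have h1 : (x * u₂ * x⁻¹) ^ p = 1 := by rw [conj_pow, hu₂p, mul_one, mul_inv_cancel]
      rw [hxd, (show Commute (u₁ ^ a.val * u₂) d from
        (hDcomm d hd _ (mul_mem (pow_mem hu₁ _) hu₂)).symm).mul_pow,
        mul_pow_eq_one hp2 huv hu₁z hu₂z hu₁p hu₂p hzp, one_mul] at h1
      exact h1
    obtain ⟨l, rfl⟩ := (mem_zpowers_iff_val hzp).1 (hDp hd hdp)
    exact ⟨a, l, hxd⟩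
  -- elements centralizing the generators centralize `D`
  have hY : ∀ {y : Ω}, y ∈ N → y * u₁ = u₁ * y → y * u₂ = u₂ * y → ∀ d ∈ D, y * d = d * y := by
    intro y hy hy1 hy2 d hd
    let Y : Subgroup Ω := N ⊓ Subgroup.centralizer ({u₁, u₂} : Set Ω)
    have hYS : Y ≤ S := inf_le_left.trans (normalizerIn_le E)
    have : Finite Y := finite_of_le hYS
    have hYc : IsCyclic Y := by
      refine PGroup.isCyclic_of_unique_subgroup hp2 (hS.to_le hYS) fun v w hv hw => ?_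
      have key : ∀ w : Y, orderOf w = p → (w : Ω) ∈ Subgroup.zpowers z := by
        intro w hw
        have hwp : (w : Ω) ^ p = 1 := congrArg Subtype.val (hw ▸ pow_orderOf_eq_one w : w ^ p = 1)
        have hc1 : (w : Ω) * u₁ = u₁ * w := ((Subgroup.mem_centralizer_iff.1 w.2.2) u₁ (by simp)).symm
        have hc2 : (w : Ω) * u₂ = u₂ * w := ((Subgroup.mem_centralizer_iff.1 w.2.2) u₂ (by simp)).symm
        obtain ⟨i, j, hij⟩ := hA0mem.1 (hrank (hYS w.2) hwp hc1 (hzcomm w.2.1))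
        rw [hij, mul_assoc, hDcomm _ (pow_mem hzD _) u₂ hu₂, ← mul_assoc, hcp, mul_assoc, mul_assoc,
          mul_eq_right] at hc2
        have hi : i = 0 := eq_of_pow_val_eq hzp hz1 (by rw [ZMod.val_zero, pow_zero]; exact hc2)
        rw [hij, hi, ZMod.val_zero, pow_zero, one_mul]
        exact pow_mem (Subgroup.mem_zpowers z) _
      obtain ⟨j, hj⟩ := key w hw
      have hv1 : (v : Ω) ≠ 1 := fun h => by
        rw [show v = 1 from Subtype.ext h, orderOf_one] at hv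
        exact hp.one_lt.ne hv
      have hvz : Subgroup.zpowers (v : Ω) = Subgroup.zpowers z := by
        have : Finite (Subgroup.zpowers z) := finite_of_le (Subgroup.zpowers_le.2 (hES' hzE))
        refine Subgroup.eq_of_le_of_card_ge (Subgroup.zpowers_le.2 (key v hv)) ?_
        rw [Nat.card_zpowers, Nat.card_zpowers, orderOf_eq_prime hzp hz1, Subgroup.orderOf_coe, hv]
      obtain ⟨k, hk⟩ : (w : Ω) ∈ Subgroup.zpowers (v : Ω) := hvz ▸ ⟨j, hj⟩
      exact ⟨k, Subtype.ext (by simpa using hk)⟩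
    let := hYc.commGroup
    have hyY : y ∈ Y := ⟨hy, Subgroup.mem_centralizer_iff.2 (by
      rintro _ (rfl | rfl)
      · exact hy1.symm
      · exact hy2.symm)⟩
    have hdY : d ∈ Y := ⟨hEN (hDE hd), Subgroup.mem_centralizer_iff.2 (by
      rintro _ (rfl | rfl)
      · exact (hDcomm d hd _ hu₁).symm
      · exact (hDcomm d hd _ hu₂).symm)⟩
    exact congrArg Subtype.val (mul_comm (⟨y, hyY⟩ : Y) ⟨d, hdY⟩)
  have hcentral : ∀ {x : Ω}, x ∈ N → x * u₁ = u₁ * x →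
      ∀ {l : ZMod p}, x * u₂ * x⁻¹ = u₂ * z ^ l.val → ∃ k : ZMod p, ∃ d ∈ D, x = u₁ ^ k.val * d := by
    intro x hx hx1 l hxl
    set y := x * u₁ ^ (-l).val
    have hy1 : Commute y u₁ := Commute.mul_left hx1 ((Commute.refl u₁).pow_left _)
    have hy2 : y * u₂ = u₂ * y := by
      calc y * u₂ = x * (u₁ ^ (-l).val * u₂) := mul_assoc _ _ _
        _ = x * (z ^ (-l).val * (u₂ * u₁ ^ (-l).val)) := by rw [hcp, mul_assoc]
        _ = z ^ (-l).val * (x * u₂ * x⁻¹) * x * u₁ ^ (-l).val := by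
            rw [← mul_assoc x, ((show Commute x z from hzcomm hx).pow_right _).eq]; group
        _ = z ^ (-l).val * z ^ l.val * u₂ * (x * u₁ ^ (-l).val) := by
            rw [hxl, ← hDcomm _ (pow_mem hzD l.val) u₂ hu₂]; group
        _ = u₂ * y := by rw [← pow_val_add hzp]; simp [y]
    have hyN : y ∈ N := mul_mem hx (hEN (pow_mem hu₁ _))
    have hall : ∀ w ∈ E, Commute y w := by
      intro w hw
      obtain ⟨a, b, d, hd, rfl⟩ := hgen w hw
      exact ((hy1.pow_right _).mul_right ((show Commute y u₂ from hy2).pow_right _)).mul_right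
        (hY hyN hy1 hy2 d hd)
    have hyE : y ∈ E := hEc ⟨hyN.1, Subgroup.mem_centralizer_iff.2 fun w hw => (hall w hw).eq.symm⟩
    have hyD : y ∈ D := (hD y hyE).2 fun w hw => (hall w hw).eq
    refine ⟨l, y, hyD, ?_⟩
    rw [← hDcomm y hyD _ (pow_mem hu₁ _), mul_assoc, ← pow_val_add hu₁p]
    simp
  -- invariance
  have hautD : ∀ (b : MulAut E) (x : E), (x : Ω) ∈ D → ((b x : E) : Ω) ∈ D := by
    intro b x hx
    refine (hD _ (b x).2).2 fun y hy => ?_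
    obtain ⟨y', hy'⟩ := b.surjective ⟨y, hy⟩
    have h1 : x * y' = y' * x := Subtype.ext (hDcomm _ hx _ y'.2)
    have h2 := congrArg (fun w => ((b w : E) : Ω)) h1
    simpa [hy'] using h2
  have hautz : ∀ (b : MulAut E) (x : E), (x : Ω) ∈ Subgroup.zpowers z → ((b x : E) : Ω) ∈ Subgroup.zpowers z := by
    intro b x hx
    have hxp : x ^ p = 1 := Subtype.ext (by
      obtain ⟨i, hi⟩ := (mem_zpowers_iff_val hzp).1 hx
      show (x : Ω) ^ p = 1
      rw [hi, pow_right_comm, hzp, one_pow])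
    exact hDp (hautD b x ((Subgroup.zpowers_le.2 hzD) hx))
      (congrArg Subtype.val (by rw [← map_pow, hxp, map_one] : b x ^ p = 1))
  have hhA0 : ∀ x : E, (x : Ω) ∈ A0 → ((h x : E) : Ω) ∈ A0 := by
    intro x hx
    have hle : A0 ≤ ((A0.subgroupOf E).comap h.toMonoidHom).map E.subtype := by
      rw [hA0, Subgroup.closure_le]
      rintro _ (rfl | rfl)
      · refine ⟨⟨_, hu₁⟩, ?_, rfl⟩
        show ((h ⟨_, hu₁⟩ : E) : Ω) ∈ A0
        obtain ⟨i, hi⟩ := (mem_zpowers_iff_val hzp).1 hh₁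
        exact hA0mem.2 ⟨α, i, by rw [← hi, mul_inv_cancel_left]⟩
      · refine ⟨⟨_, hzE⟩, ?_, rfl⟩
        show ((h ⟨_, hzE⟩ : E) : Ω) ∈ A0
        exact (Subgroup.zpowers_le.2 hzA0) (hautz h ⟨_, hzE⟩ (Subgroup.mem_zpowers _))
    obtain ⟨y, hy, hyx⟩ := hle hx
    exact (Subtype.ext hyx : y = x) ▸ hy
  have hhA1 : ∀ x : E, (x : Ω) ∈ A1 → ((h x : E) : Ω) ∈ A1 := by
    intro x hx
    obtain ⟨i, d, hd, hxid⟩ := hx
    have e : x = (⟨u₁, hu₁⟩ : E) ^ i.val * ⟨d, hDE hd⟩ := Subtype.ext (by simpa using hxid)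
    rw [e, map_mul, map_pow, Subgroup.coe_mul]
    exact mul_mem (pow_mem (hA0A1 (hhA0 ⟨u₁, hu₁⟩ hu₁A0)) _) (hDA1 (hautD h ⟨d, hDE hd⟩ hd))
  -- the stabilizer `U`
  let U : Subgroup (F.autGroup E) :=
    { carrier := {b | (∀ x : E, (x : Ω) ∈ Subgroup.zpowers z → (b : MulAut E) x = x) ∧
        (∀ x : E, (x : Ω) ∈ A0 → ((x⁻¹ * (b : MulAut E) x : E) : Ω) ∈ Subgroup.zpowers z) ∧
        ∀ x : E, ((x⁻¹ * (b : MulAut E) x : E) : Ω) ∈ A1}
      one_mem' := ⟨fun x _ => rfl, fun x _ => by simp, fun x => by simp⟩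
      mul_mem' := by
        rintro a b ⟨ha0, ha1, ha2⟩ ⟨hb0, hb1, hb2⟩
        refine ⟨fun x hx => ?_, fun x hx => ?_, fun x => ?_⟩
        · show (a : MulAut E) ((b : MulAut E) x) = x
          rw [hb0 x hx, ha0 x hx]
        · have e : x⁻¹ * (a : MulAut E) ((b : MulAut E) x) =
              x⁻¹ * (b : MulAut E) x * (((b : MulAut E) x)⁻¹ * (a : MulAut E) ((b : MulAut E) x)) := by group
          show ((x⁻¹ * (a : MulAut E) ((b : MulAut E) x) : E) : Ω) ∈ _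
          rw [e, Subgroup.coe_mul]
          refine mul_mem (hb1 x hx) (ha1 _ ?_)
          have h3 := mul_mem hx ((Subgroup.zpowers_le.2 hzA0) (hb1 x hx))
          simpa using h3
        · have e : x⁻¹ * (a : MulAut E) ((b : MulAut E) x) =
              x⁻¹ * (b : MulAut E) x * (((b : MulAut E) x)⁻¹ * (a : MulAut E) ((b : MulAut E) x)) := by group
          show ((x⁻¹ * (a : MulAut E) ((b : MulAut E) x) : E) : Ω) ∈ _
          rw [e, Subgroup.coe_mul]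
          exact mul_mem (hb2 x) (ha2 _)
      inv_mem' := by
        rintro a ⟨ha0, ha1, ha2⟩
        refine ⟨fun x hx => ?_, fun x hx => ?_, fun x => ?_⟩
        · show (a : MulAut E).symm x = x
          conv_lhs => rw [← ha0 x hx]
          exact (a : MulAut E).symm_apply_apply x
        · set y := (a : MulAut E).symm x with hy
          have hy2 : (y : Ω) ∈ A0 := inv_invariant (a : MulAut E) (P := {w : E | (w : Ω) ∈ A0})
            (fun w hw => by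
              have h3 := mul_mem hw ((Subgroup.zpowers_le.2 hzA0) (ha1 w hw))
              simpa using h3) x hx
          have h2 := inv_mem (ha1 y hy2)
          rw [MulEquiv.apply_symm_apply] at h2
          show ((x⁻¹ * y : E) : Ω) ∈ _
          simpa using h2
        · set y := (a : MulAut E).symm x with hy
          have h2 := inv_mem (ha2 y)
          rw [MulEquiv.apply_symm_apply] at h2
          show ((x⁻¹ * y : E) : Ω) ∈ _
          simpa using h2 }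
  have hA1norm : ∀ w ∈ E, ∀ v ∈ A1, w * v * w⁻¹ ∈ A1 := by
    rintro w hw _ ⟨i, d, hd, rfl⟩
    obtain ⟨i', hi'⟩ := hconj₁ (hEN hw)
    have e : w * (u₁ ^ i.val * d) * w⁻¹ = (w * u₁ * w⁻¹) ^ i.val * d := by
      rw [conj_pow, mul_assoc _ w⁻¹, ← hDcomm d hd _ (inv_mem hw)]; group
    rw [e, hi']
    exact mul_mem (pow_mem (mul_mem hu₁A1 (hDA1 (pow_mem hzD _))) _) (hDA1 hd)
  have hSU : (Cfsg.autInducedBy S E).subgroupOf (F.autGroup E) ≤ U := by
    intro b hb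
    obtain ⟨g, hg, hgb⟩ := mem_autInducedBy_iff.1 (Subgroup.mem_subgroupOf.1 hb)
    have hgN : g ∈ N := ⟨hg, mem_normalizer_of_aut hgb⟩
    obtain ⟨i, hi⟩ := hconj₁ hgN
    obtain ⟨a, l, hal⟩ := hconj₂ hgN
    refine ⟨fun x hx => Subtype.ext ?_, fun x hx => ?_, fun x => ?_⟩
    · rw [hgb x]
      obtain ⟨k, hk⟩ := hx
      rw [← hk]
      show g * z ^ k * g⁻¹ = z ^ k
      rw [← conj_zpow, hzfix hgN]
    · obtain ⟨k, l', hk⟩ := hA0mem.1 hx
      rw [Subgroup.coe_mul, Subgroup.coe_inv, hgb, hk, mul_inv_rev]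
      have e : g * (u₁ ^ k.val * z ^ l'.val) * g⁻¹ =
          (g * u₁ * g⁻¹) ^ k.val * (g * z * g⁻¹) ^ l'.val := by rw [conj_pow, conj_pow]; group
      rw [e, hi, hzfix hgN, ((show Commute u₁ z from hu₁z).pow_right _).mul_pow]
      have h3 : (z ^ l'.val)⁻¹ * (u₁ ^ k.val)⁻¹ * (u₁ ^ k.val * (z ^ i.val) ^ k.val * z ^ l'.val) =
          (z ^ l'.val)⁻¹ * (z ^ i.val) ^ k.val * z ^ l'.val := by group
      rw [h3]
      exact mul_mem (mul_mem (inv_mem (pow_mem (Subgroup.mem_zpowers z) _))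
        (pow_mem (pow_mem (Subgroup.mem_zpowers z) _) _)) (pow_mem (Subgroup.mem_zpowers z) _)
    · obtain ⟨k, m, d, hd, hx⟩ := hgen x x.2
      let M : Subgroup E :=
        { carrier := {w | (w : Ω)⁻¹ * (g * (w : Ω) * g⁻¹) ∈ A1}
          one_mem' := by simp
          mul_mem' := fun {w v} hw hv => by
            have e : ((w : Ω) * v)⁻¹ * (g * ((w : Ω) * v) * g⁻¹) =
                ((v : Ω)⁻¹ * ((w : Ω)⁻¹ * (g * (w : Ω) * g⁻¹)) * ((v : Ω)⁻¹)⁻¹) *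
                  ((v : Ω)⁻¹ * (g * (v : Ω) * g⁻¹)) := by group
            show ((w : Ω) * v)⁻¹ * (g * ((w : Ω) * v) * g⁻¹) ∈ A1
            rw [e]
            exact mul_mem (hA1norm _ (inv_mem v.2) _ hw) hv
          inv_mem' := fun {w} hw => by
            have h3 := hA1norm _ w.2 _ (inv_mem hw)
            show ((w⁻¹ : E) : Ω)⁻¹ * (g * ((w⁻¹ : E) : Ω) * g⁻¹) ∈ A1
            simpa [mul_assoc] using h3 }
      have hM₁ : (⟨u₁, hu₁⟩ : E) ∈ M := by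
        show u₁⁻¹ * (g * u₁ * g⁻¹) ∈ A1
        rw [hi, inv_mul_cancel_left]
        exact hDA1 (pow_mem hzD _)
      have hM₂ : (⟨u₂, hu₂⟩ : E) ∈ M := by
        show u₂⁻¹ * (g * u₂ * g⁻¹) ∈ A1
        rw [hal, mul_assoc, ← mul_assoc u₂⁻¹, ← mul_assoc]
        refine mul_mem ?_ (hDA1 (pow_mem hzD _))
        simpa [mul_assoc] using hA1norm _ (inv_mem hu₂) _ (pow_mem hu₁A1 a.val)
      have hMd : (⟨d, hDE hd⟩ : E) ∈ M := hDA1 (mul_mem (inv_mem hd) (hDN hgN hd))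
      have e : x = (⟨u₁, hu₁⟩ : E) ^ k.val * (⟨u₂, hu₂⟩ : E) ^ m.val * ⟨d, hDE hd⟩ := Subtype.ext (by simpa using hx)
      have hxM : x ∈ M := by
        rw [e]
        exact mul_mem (mul_mem (pow_mem hM₁ _) (pow_mem hM₂ _)) hMd
      have h4 : (x : Ω)⁻¹ * (g * (x : Ω) * g⁻¹) ∈ A1 := hxM
      rw [Subgroup.coe_mul, Subgroup.coe_inv, hgb]
      exact h4
  have hUp : IsPGroup p U := by
    rintro ⟨⟨b, hbA⟩, hb0, hb1, hb2⟩
    change ∀ x : E, (x : Ω) ∈ Subgroup.zpowers z → b x = x at hb0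
    change ∀ x : E, (x : Ω) ∈ A0 → ((x⁻¹ * b x : E) : Ω) ∈ Subgroup.zpowers z at hb1
    change ∀ x : E, ((x⁻¹ * b x : E) : Ω) ∈ A1 at hb2
    have hp0 : ∀ x : E, (x : Ω) ∈ A0 → (b ^ p) x = x := by
      intro x hx
      rw [CfsgLib.Fusion.Alperin.pow_fix_mul (mul_inv_cancel_left x (b x)).symm (hb0 _ (hb1 x hx)),
        show (x⁻¹ * b x) ^ p = 1 from Subtype.ext (hA0p _ ((Subgroup.zpowers_le.2 hzA0) (hb1 x hx))),
        mul_one]
    set c := b ^ p with hc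
    have hcz : ∀ x : E, (x : Ω) ∈ Subgroup.zpowers z → c x = x := fun x hx =>
      hp0 x ((Subgroup.zpowers_le.2 hzA0) hx)
    have hcA1 : ∀ (n : ℕ) (x : E), ((x⁻¹ * (b ^ n) x : E) : Ω) ∈ A1 := by
      intro n
      induction n with
      | zero => intro x; simp
      | succ n ih =>
        intro x
        have e : x⁻¹ * (b ^ (n + 1)) x = x⁻¹ * b x * ((b x)⁻¹ * (b ^ n) (b x)) := by
          rw [pow_succ, MulAut.mul_apply]; group
        rw [e, Subgroup.coe_mul]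
        exact mul_mem (hb2 x) (ih _)
    -- `c ^ p` fixes the two generators
    have hc2 : (c ^ p) ⟨u₂, hu₂⟩ = ⟨u₂, hu₂⟩ := by
      set w : E := (⟨u₂, hu₂⟩ : E)⁻¹ * c ⟨u₂, hu₂⟩ with hw
      obtain ⟨i, d, hd, hid⟩ := hcA1 p ⟨u₂, hu₂⟩
      have hcu : ((c ⟨u₂, hu₂⟩ : E) : Ω) = u₂ * (u₁ ^ i.val * d) := by
        rw [← hid]
        simp [hc]
      have hdp : d ^ p = 1 := by
        have h1 : ((c ⟨u₂, hu₂⟩ : E) : Ω) ^ p = 1 := by
          rw [← SubmonoidClass.coe_pow, ← map_pow, show (⟨u₂, hu₂⟩ : E) ^ p = 1 from Subtype.ext hu₂p, map_one]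
          rfl
        rw [hcu, ← mul_assoc, (show Commute (u₂ * u₁ ^ i.val) d from
          (hDcomm d hd _ (mul_mem hu₂ (pow_mem hu₁ _))).symm).mul_pow] at h1
        have h2 : (u₂ * u₁ ^ i.val) ^ p = 1 := by
          have e : u₂ * u₁ ^ i.val = (u₁ ^ i.val)⁻¹ * (u₁ ^ i.val * u₂) * ((u₁ ^ i.val)⁻¹)⁻¹ := by group
          rw [e, conj_pow, mul_pow_eq_one hp2 huv hu₁z hu₂z hu₁p hu₂p hzp, mul_one, mul_inv_cancel]
        rwa [h2, one_mul] at h1
      have hwA : (w : Ω) ∈ A0 := by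
        have : (w : Ω) = u₁ ^ i.val * d := hid
        rw [this]
        exact mul_mem (pow_mem hu₁A0 _) ((Subgroup.zpowers_le.2 hzA0) (hDp hd hdp))
      rw [CfsgLib.Fusion.Alperin.pow_fix_mul (mul_inv_cancel_left _ (c ⟨u₂, hu₂⟩)).symm (hp0 w hwA),
        show w ^ p = 1 from Subtype.ext (hA0p _ hwA), mul_one]
    have hc1 : (c ^ p) ⟨u₁, hu₁⟩ = ⟨u₁, hu₁⟩ := by
      have : ∀ n : ℕ, (c ^ n) ⟨u₁, hu₁⟩ = ⟨u₁, hu₁⟩ := by
        intro n
        induction n with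
        | zero => rfl
        | succ n ih => rw [pow_succ, MulAut.mul_apply, hp0 _ hu₁A0, ih]
      exact this p
    -- and some further power fixes `D`
    set e := c ^ p with he
    let σ : D →* D := MonoidHom.mk'
      (fun d => ⟨((e ⟨(d : Ω), hDE d.2⟩ : E) : Ω), hautD e ⟨d, hDE d.2⟩ d.2⟩)
      (fun d d' => Subtype.ext (by
        show ((e ⟨((d * d' : D) : Ω), _⟩ : E) : Ω) = _
        rw [show (⟨((d * d' : D) : Ω), hDE (d * d').2⟩ : E) = ⟨(d : Ω), hDE d.2⟩ * ⟨(d' : Ω), hDE d'.2⟩ from rfl,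
          map_mul]
        rfl))
    have hσz : σ ⟨z, hzD⟩ = ⟨z, hzD⟩ := by
      have : ∀ n : ℕ, (c ^ n) ⟨z, hzE⟩ = ⟨z, hzE⟩ := by
        intro n
        induction n with
        | zero => rfl
        | succ n ih => rw [pow_succ, MulAut.mul_apply, hcz _ (Subgroup.mem_zpowers z), ih]
      apply Subtype.ext
      show ((e ⟨z, hzE⟩ : E) : Ω) = z
      rw [he, this p]
    have hσit : ∀ (n : ℕ) (d : D), ((σ^[n] d : D) : Ω) = (((e ^ n) ⟨d, hDE d.2⟩ : E) : Ω) := by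
      intro n
      induction n with
      | zero => intro d; rfl
      | succ n ih =>
        intro d
        rw [Function.iterate_succ_apply, ih, pow_succ, MulAut.mul_apply]
        rfl
    have hfixall : (e ^ Nat.card D) = 1 := by
      refine MulEquiv.ext fun x => ?_
      obtain ⟨a', b', d, hd, hx⟩ := hgen x x.2
      have e1 : x = (⟨u₁, hu₁⟩ : E) ^ a'.val * (⟨u₂, hu₂⟩ : E) ^ b'.val * ⟨d, hDE hd⟩ := Subtype.ext (by simpa using hx)
      have hg : ∀ (w : E), e w = w → ∀ n : ℕ, (e ^ n) w = w := by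
        intro w hw n
        induction n with
        | zero => rfl
        | succ n ih => rw [pow_succ, MulAut.mul_apply, hw, ih]
      have hdfix : (e ^ Nat.card D) ⟨d, hDE hd⟩ = ⟨d, hDE hd⟩ := by
        have h1 := iterate_card_eq (hS.to_le (hDE.trans hES')) σ (fun h => hz1 (congrArg Subtype.val h)) hσz ⟨d, hd⟩
        have h2 := hσit (Nat.card D) ⟨d, hd⟩
        rw [h1] at h2
        exact Subtype.ext h2.symm
      rw [MulAut.one_apply, e1, map_mul, map_mul, map_pow, map_pow, hg _ hc1, hg _ hc2, hdfix]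
    obtain ⟨n, hn⟩ := IsPGroup.iff_card.1 (hS.to_le (hDE.trans hES') : IsPGroup p D)
    refine ⟨1 + 1 + n, Subtype.ext (Subtype.ext ?_)⟩
    show b ^ p ^ (1 + 1 + n) = 1
    rw [pow_add, pow_add, pow_one, pow_mul, pow_mul, ← hn]
    exact hfixall
  obtain ⟨⟨-, P, hP⟩, hrec⟩ := fullyNormalized_props hS hF hEn
  have hPU : U = (P : Subgroup (F.autGroup E)) := P.is_maximal' hUp (hP ▸ hSU)
  have hinvz := inv_invariant h (P := {w : E | (w : Ω) ∈ Subgroup.zpowers z}) fun w hw => hautz h w hw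
  have hinvA0 := inv_invariant h (P := {w : E | (w : Ω) ∈ A0}) hhA0
  let φ : E →* Ω := E.subtype.comp h.toMonoidHom
  have hφ : φ ∈ F.Hom E := (mem_autGroup_iff F hES').1 hh
  have hφr : φ.range = E := range_subtype_comp h
  have hNext : N ≤ extender S E φ := by
    intro g hg
    refine mem_extender_of_congr hφ hφr hg.1 hg.2 ?_
    have hgU : (⟨conjAut hg.2, autInducedBy_le_autGroup F hES' (conjAut_mem_autInducedBy hg.2 hg.1)⟩ :
        F.autGroup E) ∈ U := hSU (Subgroup.mem_subgroupOf.2 (conjAut_mem_autInducedBy hg.2 hg.1))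
    obtain ⟨hg0, hg1, hg2⟩ := hgU
    let c : F.autGroup E := ⟨h * conjAut hg.2 * h⁻¹, mul_mem (mul_mem hh
      (autInducedBy_le_autGroup F hES' (conjAut_mem_autInducedBy hg.2 hg.1))) (inv_mem hh)⟩
    have hcU : c ∈ U := by
      have key : ∀ x : E, x⁻¹ * h (conjAut hg.2 (h⁻¹ x)) = h ((h⁻¹ x)⁻¹ * conjAut hg.2 (h⁻¹ x)) := by
        intro x
        rw [map_mul, map_inv, MulAut.apply_inv_self]
      refine ⟨fun x hx => ?_, fun x hx => ?_, fun x => ?_⟩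
      · show h (conjAut hg.2 (h⁻¹ x)) = x
        rw [hg0 _ (hinvz x hx), MulAut.apply_inv_self]
      · show ((x⁻¹ * h (conjAut hg.2 (h⁻¹ x)) : E) : Ω) ∈ _
        rw [key]
        exact hautz h _ (hg1 _ (hinvA0 x hx))
      · show ((x⁻¹ * h (conjAut hg.2 (h⁻¹ x)) : E) : Ω) ∈ _
        rw [key]
        exact hhA1 _ (hg2 _)
    rw [hPU, hP, Subgroup.mem_subgroupOf] at hcU
    have hiso : isoOf hφ hφr = (h : E ≃* E) := MulEquiv.ext fun x => Subtype.ext rfl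
    rw [hiso]
    exact hcU
  obtain ⟨ψ, hψ, hψext⟩ := exists_ext hrec hφ hφr hEN hNext
  have hψN : ∀ g : N, ψ g ∈ N := fun g => map_mem_normalizerIn hφr hψ hEN hψext g.2.2
  have hψE : ∀ {x : Ω} (hx : x ∈ E), ψ ⟨x, hEN hx⟩ = ((h ⟨x, hx⟩ : E) : Ω) := fun hx => hψext ⟨_, hx⟩
  -- the element `t`
  obtain ⟨g, hgN, hgE⟩ := Fusion.Alperin.exists_normalizing_not_mem hS hES' hES
  obtain ⟨i₀, hi₀⟩ := hconj₁ hgN
  set t := g * u₂ ^ i₀.val with ht
  have htN : t ∈ N := mul_mem hgN (hEN (pow_mem hu₂ _))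
  have htE : t ∉ E := fun h1 => hgE ((Subgroup.mul_mem_cancel_right E (pow_mem hu₂ _)).1 h1)
  have htu₁ : t * u₁ = u₁ * t := by
    refine mul_inv_eq_iff_eq_mul.1 ?_
    have h1 : u₂ ^ i₀.val * u₁ * (u₂ ^ i₀.val)⁻¹ = (z ^ i₀.val)⁻¹ * u₁ := by
      have h2 : u₂ ^ i₀.val * u₁ = (z ^ i₀.val)⁻¹ * (u₁ * u₂ ^ i₀.val) := by rw [hcp']; group
      rw [h2]; group
    calc t * u₁ * t⁻¹ = g * (u₂ ^ i₀.val * u₁ * (u₂ ^ i₀.val)⁻¹) * g⁻¹ := by rw [ht]; group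
      _ = (g * z * g⁻¹) ^ (-(i₀.val : ℤ)) * (g * u₁ * g⁻¹) := by rw [h1, conj_zpow]; group
      _ = u₁ := by rw [hzfix hgN, hi₀, ((show Commute u₁ z from hu₁z).pow_right _).eq]; group
  obtain ⟨a, l, hal⟩ := hconj₂ htN
  have ha : a ≠ 0 := by
    rintro rfl
    rw [ZMod.val_zero, pow_zero, one_mul] at hal
    obtain ⟨k, d, hd, htkd⟩ := hcentral htN htu₁ hal
    exact htE (htkd ▸ mul_mem (pow_mem hu₁ _) (hDE hd))
  have htz := hzcomm htN
  have htA0 : ∀ w ∈ A0, t * w = w * t := by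
    intro w hw
    obtain ⟨i, j, rfl⟩ := hA0mem.1 hw
    exact ((show Commute t u₁ from htu₁).pow_right _).mul_right ((show Commute t z from htz).pow_right _)
  have hiter : ∀ n : ℕ, ∃ c : ZMod p, t ^ n * u₂ * (t ^ n)⁻¹ = u₁ ^ ((n : ZMod p) * a).val * u₂ * z ^ c.val := by
    intro n
    induction n with
    | zero => exact ⟨0, by simp⟩
    | succ n ih =>
      obtain ⟨c, hc⟩ := ih
      refine ⟨l + c, ?_⟩
      calc t ^ (n + 1) * u₂ * (t ^ (n + 1))⁻¹ = t * (t ^ n * u₂ * (t ^ n)⁻¹) * t⁻¹ := by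
            rw [pow_succ']; group
        _ = (t * u₁ * t⁻¹) ^ ((n : ZMod p) * a).val * (t * u₂ * t⁻¹) * (t * z * t⁻¹) ^ c.val := by
            rw [hc, conj_pow, conj_pow]; group
        _ = u₁ ^ ((n : ZMod p) * a).val * u₁ ^ a.val * u₂ * (z ^ l.val * z ^ c.val) := by
            rw [mul_inv_eq_iff_eq_mul.2 htu₁, hzfix htN, hal]; group
        _ = _ := by
            rw [← pow_val_add hu₁p, ← pow_val_add hzp, Nat.cast_succ, add_mul, one_mul]
  set t₁ := ψ ⟨t, htN⟩ with ht₁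
  have ht₁N : t₁ ∈ N := hψN _
  have ht₁A0 : ∀ w ∈ A0, t₁ * w = w * t₁ := by
    intro w hw
    have hy := hinvA0 ⟨w, hA0E hw⟩ hw
    set y := h⁻¹ (⟨w, hA0E hw⟩ : E)
    have h1 : (⟨t, htN⟩ : N) * ⟨y, hEN y.2⟩ = ⟨y, hEN y.2⟩ * ⟨t, htN⟩ := Subtype.ext (htA0 _ hy)
    have h2 := congrArg ψ h1
    rw [map_mul, map_mul, hψE y.2, show (⟨(y : Ω), y.2⟩ : E) = y from rfl,
      MulAut.apply_inv_self] at h2
    exact h2
  obtain ⟨a', l', hal'⟩ := hconj₂ ht₁N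
  -- weights
  have hrel : β * a' = α * a := by
    obtain ⟨i, hi⟩ := (mem_zpowers_iff_val hzp).1 hh₁
    have hhu₁ : ((h ⟨u₁, hu₁⟩ : E) : Ω) = u₁ ^ α.val * z ^ i.val := by rw [← hi, mul_inv_cancel_left]
    set w := (u₂ ^ β.val)⁻¹ * ((h ⟨u₂, hu₂⟩ : E) : Ω) with hw
    have hhu₂ : ((h ⟨u₂, hu₂⟩ : E) : Ω) = u₂ ^ β.val * w := (mul_inv_cancel_left _ _).symm
    -- left side
    have hL : ∀ n : ℕ, ∃ c : ℕ, (t₁ * u₂ * t₁⁻¹) ^ n * (u₂ ^ n)⁻¹ = u₁ ^ (n * a'.val) * z ^ c := by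
      intro n
      induction n with
      | zero => exact ⟨0, by simp⟩
      | succ n ih =>
        obtain ⟨c, hc⟩ := ih
        refine ⟨l'.val + c + (p - 1) * (n * a'.val), ?_⟩
        have h3 : u₂ * u₁ ^ (n * a'.val) = z ^ ((p - 1) * (n * a'.val)) * u₁ ^ (n * a'.val) * u₂ := by
          rw [mul_assoc, hcp, ← mul_assoc, ← mul_assoc, ← pow_add]
          have hdiv : (p - 1) * (n * a'.val) + n * a'.val = p * (n * a'.val) := by
            rw [← Nat.succ_mul, Nat.succ_eq_add_one, Nat.sub_add_cancel hp.one_le]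
          rw [hdiv, pow_mul z p, hzp, one_pow, one_mul]
        have hzl : Commute (z ^ l'.val) (u₁ ^ (n * a'.val)) := hDcomm _ (pow_mem hzD _) _ (pow_mem hu₁ _)
        have hzc : Commute (z ^ l'.val * z ^ c) u₂⁻¹ :=
          hDcomm _ (mul_mem (pow_mem hzD _) (pow_mem hzD _)) _ (inv_mem hu₂)
        calc (t₁ * u₂ * t₁⁻¹) ^ (n + 1) * (u₂ ^ (n + 1))⁻¹
            = (t₁ * u₂ * t₁⁻¹) * ((t₁ * u₂ * t₁⁻¹) ^ n * (u₂ ^ n)⁻¹) * u₂⁻¹ := by
              rw [pow_succ', pow_succ u₂]; group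
          _ = u₁ ^ a'.val * u₂ * (z ^ l'.val * u₁ ^ (n * a'.val)) * z ^ c * u₂⁻¹ := by rw [hc, hal']; group
          _ = u₁ ^ a'.val * (u₂ * u₁ ^ (n * a'.val)) * (z ^ l'.val * z ^ c * u₂⁻¹) := by rw [hzl.eq]; group
          _ = u₁ ^ a'.val * (z ^ ((p - 1) * (n * a'.val)) * u₁ ^ (n * a'.val)) * (z ^ l'.val * z ^ c) := by
              rw [hzc.eq, h3]; group
          _ = _ := by
              rw [(show Commute (z ^ ((p - 1) * (n * a'.val))) (u₁ ^ (n * a'.val)) from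
                hDcomm _ (pow_mem hzD _) _ (pow_mem hu₁ _)).eq]
              rw [show (n + 1) * a'.val = a'.val + n * a'.val by ring, pow_add, pow_add, pow_add]
              simp only [mul_assoc]
              congr 2
              rw [← pow_add, ← pow_add, ← pow_add, ← pow_add]
              congr 1
              ring
    obtain ⟨c, hc⟩ := hL β.val
    have hLHS : t₁ * ((h ⟨u₂, hu₂⟩ : E) : Ω) * t₁⁻¹ * ((h ⟨u₂, hu₂⟩ : E) : Ω)⁻¹ =
        u₁ ^ (β.val * a'.val) * z ^ c := by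
      rw [← hc, conj_pow, hhu₂]
      have hwt := ht₁A0 w hh₂
      calc t₁ * (u₂ ^ β.val * w) * t₁⁻¹ * (u₂ ^ β.val * w)⁻¹
          = t₁ * u₂ ^ β.val * (w * t₁⁻¹) * w⁻¹ * (u₂ ^ β.val)⁻¹ := by group
        _ = _ := by rw [(show Commute t₁ w from hwt).inv_left.eq.symm]; group
    -- right side
    have hRHS : t₁ * ((h ⟨u₂, hu₂⟩ : E) : Ω) * t₁⁻¹ * ((h ⟨u₂, hu₂⟩ : E) : Ω)⁻¹ =
        u₁ ^ (α.val * a.val) * (z ^ i.val) ^ a.val * ((h ⟨z, hzE⟩ : E) : Ω) ^ l.val := by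
      have h1 : (⟨t, htN⟩ : N) * ⟨u₂, hEN hu₂⟩ * (⟨t, htN⟩ : N)⁻¹ =
          ⟨u₁, hEN hu₁⟩ ^ a.val * ⟨u₂, hEN hu₂⟩ * ⟨z, hEN hzE⟩ ^ l.val := Subtype.ext (by simpa using hal)
      have h2 := congrArg ψ h1
      rw [map_mul, map_mul, map_inv, map_mul, map_mul, map_pow, map_pow, hψE hu₂, hψE hu₁, hψE hzE] at h2
      rw [h2]
      have hzl : Commute (((h ⟨z, hzE⟩ : E) : Ω) ^ l.val) ((h ⟨u₂, hu₂⟩ : E) : Ω)⁻¹ :=
        hDcomm _ (pow_mem (hautD h ⟨z, hzE⟩ hzD) _) _ (inv_mem (h ⟨u₂, hu₂⟩).2)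
      rw [mul_assoc, hzl.eq, ← mul_assoc, mul_inv_cancel_right, hhu₁,
        ((show Commute u₁ z from hu₁z).pow_pow _ _).mul_pow, ← pow_mul]
    rw [hLHS] at hRHS
    have e1 : u₁ ^ (β.val * a'.val) = u₁ ^ (β * a').val := by
      rw [pow_natCast_eq hu₁p (β.val * a'.val), Nat.cast_mul, ZMod.natCast_zmod_val, ZMod.natCast_zmod_val]
    have e2 : u₁ ^ (α.val * a.val) = u₁ ^ (α * a).val := by
      rw [pow_natCast_eq hu₁p (α.val * a.val), Nat.cast_mul, ZMod.natCast_zmod_val, ZMod.natCast_zmod_val]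
    rw [e1, e2, mul_assoc] at hRHS
    exact (hind (pow_mem hzD _) (mul_mem (pow_mem (pow_mem hzD _) _)
      (pow_mem (hautD h ⟨z, hzE⟩ hzD) _)) hRHS).1
  set m := α * β⁻¹ with hm
  have hma : m * a = a' := by
    rw [hm, mul_right_comm, ← hrel, mul_comm β a', mul_assoc, mul_inv_cancel₀ hβ0, mul_one]
  -- `t₁ = t ^ m` modulo `⟨u₁⟩ D`
  obtain ⟨k, d', hd', ht₁eq⟩ : ∃ k : ZMod p, ∃ d ∈ D, t₁ = t ^ m.val * (u₁ ^ k.val * d) := by
    obtain ⟨c, hc⟩ := hiter m.val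
    rw [ZMod.natCast_zmod_val, hma] at hc
    have hcomm₁ : (t ^ m.val)⁻¹ * t₁ * u₁ = u₁ * ((t ^ m.val)⁻¹ * t₁) :=
      ((show Commute t u₁ from htu₁).pow_left _).inv_left.mul_left (ht₁A0 u₁ hu₁A0)
    have hzt : Commute (t ^ m.val) (z ^ (l' - c).val) := (show Commute t z from htz).pow_pow _ _
    have hu : (t ^ m.val)⁻¹ * t₁ * u₂ * ((t ^ m.val)⁻¹ * t₁)⁻¹ = u₂ * z ^ (l' - c).val := by
      calc (t ^ m.val)⁻¹ * t₁ * u₂ * ((t ^ m.val)⁻¹ * t₁)⁻¹
          = (t ^ m.val)⁻¹ * (t₁ * u₂ * t₁⁻¹) * t ^ m.val := by group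
        _ = (t ^ m.val)⁻¹ * (u₁ ^ a'.val * u₂ * z ^ c.val * z ^ (l' - c).val) * t ^ m.val := by
            rw [hal', mul_assoc _ (z ^ c.val), ← pow_val_add hzp, add_sub_cancel]
        _ = u₂ * z ^ (l' - c).val := by
            rw [← hc]
            calc (t ^ m.val)⁻¹ * (t ^ m.val * u₂ * (t ^ m.val)⁻¹ * z ^ (l' - c).val) * t ^ m.val
                = u₂ * ((t ^ m.val)⁻¹ * z ^ (l' - c).val * t ^ m.val) := by group
              _ = _ := by rw [hzt.inv_left.eq, inv_mul_cancel_right]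
    obtain ⟨k, d, hd, hkd⟩ := hcentral (mul_mem (inv_mem (pow_mem htN _)) ht₁N) hcomm₁ hu
    exact ⟨k, d, hd, by rw [← hkd, mul_inv_cancel_left]⟩
  -- `t` centralizes `D`
  have htD : ∀ d ∈ D, t * d = d * t := by
    rcases hαβ with hne | hle
    swap
    · intro d hd
      obtain ⟨j, rfl⟩ := hle hd
      exact ((show Commute t z from htz).zpow_right j).eq
    intro d hd
    set K : ℤ := (m.val : ℤ) - 1 with hK
    have hKp : ¬ (p : ℤ) ∣ K := by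
      rw [← ZMod.intCast_zmod_eq_zero_iff_dvd, hK]
      push_cast
      rw [ZMod.natCast_zmod_val, sub_eq_zero, hm, mul_inv_eq_one₀ hβ0]
      exact hne
    obtain ⟨n, hn⟩ := hS ⟨t, htN.1⟩
    have htn : t ^ p ^ n = 1 := congrArg Subtype.val hn
    obtain ⟨x, y, hxy⟩ : IsCoprime K ((p : ℤ) ^ n) :=
      (((Nat.prime_iff_prime_int.1 hp).coprime_iff_not_dvd).2 hKp).symm.pow_right
    have htK : Commute (t ^ K) d := by
      obtain ⟨κ, hκ⟩ := MonoidHom.map_cyclic (G := D)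
        (((MulAut.conj t).toMonoidHom.comp D.subtype).codRestrict D fun w => hDN htN w.2)
      have hκ' : ∀ v ∈ D, t * v * t⁻¹ = v ^ κ := fun v hv => congrArg Subtype.val (hκ ⟨v, hv⟩)
      have hd0 := inv_invariant h (P := {w : E | (w : Ω) ∈ D}) (fun w hw => hautD h w hw) ⟨d, hDE hd⟩ hd
      set v := h⁻¹ (⟨d, hDE hd⟩ : E)
      have h1 : (⟨t, htN⟩ : N) * ⟨v, hEN v.2⟩ * (⟨t, htN⟩ : N)⁻¹ = (⟨v, hEN v.2⟩ : N) ^ κ :=
        Subtype.ext (by simpa using hκ' _ hd0)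
      have h2 := congrArg ψ h1
      rw [map_mul, map_mul, map_inv, map_zpow, hψE v.2, show (⟨(v : Ω), v.2⟩ : E) = v from rfl,
        MulAut.apply_inv_self, ← hκ' d hd] at h2
      change t₁ * d * t₁⁻¹ = _ at h2
      rw [ht₁eq] at h2
      have hud : Commute (u₁ ^ k.val * d') d := (hDcomm d hd _ (mul_mem (pow_mem hu₁ _) (hDE hd'))).symm
      have h3 : t ^ m.val * d * (t ^ m.val)⁻¹ = t * d * t⁻¹ := by
        rw [← h2]
        calc t ^ m.val * d * (t ^ m.val)⁻¹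
            = t ^ m.val * (d * (u₁ ^ k.val * d')) * (u₁ ^ k.val * d')⁻¹ * (t ^ m.val)⁻¹ := by group
          _ = _ := by rw [← hud.eq]; group
      have h4 : t ^ K * d * (t ^ K)⁻¹ = d := by
        calc t ^ K * d * (t ^ K)⁻¹ = t⁻¹ * (t ^ m.val * d * (t ^ m.val)⁻¹) * t := by rw [hK]; group
          _ = d := by rw [h3]; group
      exact mul_inv_eq_iff_eq_mul.1 h4
    have e : t = (t ^ K) ^ x := by
      calc t = t ^ (x * K + y * (p : ℤ) ^ n) := by rw [hxy, zpow_one]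
        _ = _ := by
          rw [zpow_add, mul_comm x, zpow_mul, mul_comm y, zpow_mul,
            show ((p : ℤ) ^ n) = ((p ^ n : ℕ) : ℤ) by push_cast; rfl, zpow_natCast, htn, one_zpow, mul_one]
    rw [e]
    exact (htK.zpow_left x).eq
  -- the `p`-th power
  obtain ⟨i, d0, hd0, htp⟩ : ∃ i : ZMod p, ∃ d ∈ D, t ^ p = u₁ ^ i.val * d := by
    obtain ⟨c, hc⟩ := hiter p
    rw [ZMod.natCast_self, zero_mul, ZMod.val_zero, pow_zero, one_mul] at hc
    exact hcentral (pow_mem htN _) ((show Commute t u₁ from htu₁).pow_left p).eq hc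
  have htud : Commute t (u₁ ^ k.val * d') :=
    ((show Commute t u₁ from htu₁).pow_right _).mul_right (htD d' hd')
  have hud' : Commute (u₁ ^ i.val) d0 := (hDcomm d0 hd0 _ (pow_mem hu₁ _)).symm
  have hA : t₁ ^ p = u₁ ^ (m * i).val * (d0 ^ m.val * d' ^ p) := by
    rw [ht₁eq, (htud.pow_left _).mul_pow, pow_right_comm, htp, hud'.mul_pow,
      (show Commute (u₁ ^ k.val) d' from (hDcomm d' hd' _ (pow_mem hu₁ _)).symm).mul_pow,
      pow_right_comm u₁ k.val p, hu₁p, one_pow, one_mul, ← pow_val_mul hu₁p, mul_comm i m, mul_assoc]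
  obtain ⟨i₁, hi₁⟩ := (mem_zpowers_iff_val hzp).1 hh₁
  have hhu₁ : ((h ⟨u₁, hu₁⟩ : E) : Ω) = u₁ ^ α.val * z ^ i₁.val := by rw [← hi₁, mul_inv_cancel_left]
  have hB : t₁ ^ p = u₁ ^ (α * i).val * ((z ^ i₁.val) ^ i.val * ((h ⟨d0, hDE hd0⟩ : E) : Ω)) := by
    have h1 : (⟨t, htN⟩ : N) ^ p = ⟨u₁, hEN hu₁⟩ ^ i.val * ⟨d0, hEN (hDE hd0)⟩ :=
      Subtype.ext (by simpa using htp)
    rw [ht₁, ← map_pow, h1, map_mul, map_pow, hψE hu₁, hψE (hDE hd0), hhu₁,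
      ((show Commute u₁ z from hu₁z).pow_pow _ _).mul_pow, ← pow_val_mul hu₁p, mul_assoc]
  obtain ⟨hmi, hd0h⟩ := hind (mul_mem (pow_mem hd0 _) (pow_mem hd' _))
    (mul_mem (pow_mem (pow_mem hzD _) _) (hautD h ⟨d0, hDE hd0⟩ hd0)) (hA.symm.trans hB)
  have hi0 : i = 0 := by
    by_contra hi0
    have h1 : m = α := mul_right_cancel₀ hi0 hmi
    rw [hm, mul_eq_left₀ hα, inv_eq_one] at h1
    exact hβ (by rw [h1, one_mul])
  subst hi0
  rw [ZMod.val_zero, pow_zero, one_mul] at hd0h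
  rw [ZMod.val_zero, pow_zero, one_mul] at htp
  -- the action of `h` on `D`
  let σh : D →* D := MonoidHom.mk'
    (fun d => ⟨((h ⟨(d : Ω), hDE d.2⟩ : E) : Ω), hautD h ⟨d, hDE d.2⟩ d.2⟩)
    (fun d d' => Subtype.ext (by
      show ((h ⟨((d * d' : D) : Ω), _⟩ : E) : Ω) = _
      rw [show (⟨((d * d' : D) : Ω), hDE (d * d').2⟩ : E) = ⟨(d : Ω), hDE d.2⟩ * ⟨(d' : Ω), hDE d'.2⟩ from rfl,
        map_mul]
      rfl))
  obtain ⟨δ, hδ⟩ := MonoidHom.map_cyclic σh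
  have hδ' : ∀ v (hv : v ∈ D), ((h ⟨v, hDE hv⟩ : E) : Ω) = v ^ δ := fun v hv =>
    congrArg Subtype.val (hδ ⟨v, hv⟩)
  have hhz : ((h ⟨z, hzE⟩ : E) : Ω) = z ^ (α * β).val := by
    have e : (⟨z, hzE⟩ : E) = ⟨u₁, hu₁⟩ * ⟨u₂, hu₂⟩ * (⟨u₁, hu₁⟩ : E)⁻¹ * (⟨u₂, hu₂⟩ : E)⁻¹ := by
      apply Subtype.ext
      show z = u₁ * u₂ * u₁⁻¹ * u₂⁻¹
      rw [huv]; group
    rw [e, map_mul, map_mul, map_mul, map_inv, map_inv, Subgroup.coe_mul, Subgroup.coe_mul,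
      Subgroup.coe_mul, Subgroup.coe_inv, Subgroup.coe_inv, hhu₁]
    set w := (u₂ ^ β.val)⁻¹ * ((h ⟨u₂, hu₂⟩ : E) : Ω) with hw
    have hhu₂ : ((h ⟨u₂, hu₂⟩ : E) : Ω) = u₂ ^ β.val * w := (mul_inv_cancel_left _ _).symm
    have hwu : Commute w (u₁ ^ α.val * z ^ i₁.val) :=
      hA0c w hh₂ _ (mul_mem (pow_mem hu₁A0 _) (pow_mem hzA0 _))
    rw [hhu₂]
    calc u₁ ^ α.val * z ^ i₁.val * (u₂ ^ β.val * w) * (u₁ ^ α.val * z ^ i₁.val)⁻¹ * (u₂ ^ β.val * w)⁻¹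
        = u₁ ^ α.val * z ^ i₁.val * u₂ ^ β.val * (w * (u₁ ^ α.val * z ^ i₁.val)⁻¹) * w⁻¹ *
            (u₂ ^ β.val)⁻¹ := by group
      _ = u₁ ^ α.val * (z ^ i₁.val * u₂ ^ β.val) * (z ^ i₁.val)⁻¹ * (u₁ ^ α.val)⁻¹ * (u₂ ^ β.val)⁻¹ := by
          rw [hwu.inv_right.eq]; group
      _ = u₁ ^ α.val * u₂ ^ β.val * (u₁ ^ α.val)⁻¹ * (u₂ ^ β.val)⁻¹ := by
          rw [hDcomm _ (pow_mem hzD _) _ (pow_mem hu₂ _)]; group
      _ = z ^ (α * β).val := by
          rw [hcomp, mul_inv_cancel_right, mul_inv_cancel_right, ← pow_val_mul hzp, mul_comm β α]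
  have hδc : (δ : ZMod p) = α * β := by
    refine eq_of_pow_val_eq hzp hz1 ?_
    rw [← hhz, hδ' z hzD, ← zpow_natCast, ZMod.val_intCast]
    exact (zpow_eq_zpow_emod' δ hzp).symm
  rw [hδ' d0 hd0] at hd0h
  set K₂ : ℤ := (m.val : ℤ) - δ with hK₂
  have hK₂p : ¬ (p : ℤ) ∣ K₂ := by
    rw [← ZMod.intCast_zmod_eq_zero_iff_dvd, hK₂]
    push_cast
    rw [ZMod.natCast_zmod_val, hδc, sub_eq_zero, hm, mul_right_inj' hα, inv_eq_iff_eq_inv]
    intro h1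
    apply hβ
    calc β * β = β * β⁻¹ := by rw [← h1]
      _ = 1 := mul_inv_cancel₀ hβ0
  obtain ⟨x, y, hxy⟩ : IsCoprime K₂ (p : ℤ) :=
    (((Nat.prime_iff_prime_int.1 hp).coprime_iff_not_dvd).2 hK₂p).symm
  have hK₂d : d0 ^ K₂ = (d' ^ p)⁻¹ := by
    rw [hK₂, zpow_sub, zpow_natCast, ← hd0h, mul_inv_rev]
    have hc : Commute (d0 ^ m.val) (d' ^ p)⁻¹ := hDcomm _ (pow_mem hd0 _) _ (inv_mem (pow_mem (hDE hd') _))
    rw [← mul_assoc, hc.eq, mul_inv_cancel_right]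
  set d1 := (d'⁻¹) ^ x * d0 ^ y with hd1
  have hd1D : d1 ∈ D := mul_mem (zpow_mem (inv_mem hd') _) (zpow_mem hd0 _)
  have hd1p : d1 ^ p = d0 := by
    have hc : Commute ((d'⁻¹) ^ x) (d0 ^ y) := hDcomm _ (zpow_mem (inv_mem hd') _) _ (zpow_mem (hDE hd0) _)
    calc d1 ^ p = ((d' ^ p)⁻¹) ^ x * (d0 ^ (p : ℤ)) ^ y := by
          rw [hd1, hc.mul_pow, ← zpow_natCast, ← zpow_natCast, ← zpow_mul, ← zpow_mul, ← inv_pow,
            ← zpow_natCast, ← zpow_mul, mul_comm x, ← zpow_mul, mul_comm y]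
      _ = d0 ^ (x * K₂ + y * (p : ℤ)) := by
          rw [← hK₂d, zpow_add, ← zpow_mul, ← zpow_mul, mul_comm K₂ x, mul_comm (p : ℤ) y]
      _ = d0 := by rw [hxy, zpow_one]
  have hyp : (t * d1⁻¹) ^ p = 1 := by
    rw [(show Commute t d1⁻¹ from htD _ (inv_mem hd1D)).mul_pow, inv_pow, hd1p, htp, mul_inv_cancel]
  have hmem := hrank (mul_mem htN.1 (hES' (inv_mem (hDE hd1D)))) hyp
    ((show Commute t u₁ from htu₁).mul_left (hDcomm _ (inv_mem hd1D) u₁ hu₁)).eq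
    ((show Commute t z from htz).mul_left (hDcomm _ (inv_mem hd1D) z hzE)).eq
  exact htE ((Subgroup.mul_mem_cancel_right E (inv_mem (hDE hd1D))).1 (hA0E hmem))

end CfsgLib.Fus.RankTwoResistant
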