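import Cfsg.Agent.Fus.RankTwoResistant.Torus
import Cfsg.Agent.Fus.RankTwoResistant.Key
import Cfsg.Agent.Fus.EssentialCube

/-!
An extraspecial group of order `p ^ 3` and exponent `p` that is a proper centric subgroup carries no torus.
-/

set_option autoImplicit false

namespace CfsgLib.Fus.RankTwoResistant

open Cfsg Cfsg.FusionSystem CfsgLib.Fus CfsgLib.Fus.EssentialSmall CfsgLib.Fus.EssentialRankTwo
open scoped commutatorElement

/-- Two independent elements generate a plane section. -/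
theorem exists_form {R : Type*} [Group R] [Finite R] {p : ℕ} [Fact p.Prime] {C Z0 : Subgroup R} [Z0.Normal]
    (hab : ∀ a ∈ C, ∀ b ∈ C, ⁅a, b⁆ ∈ Z0) (hpow : ∀ c ∈ C, c ^ p ∈ Z0) (hidx : Z0.relIndex C = p ^ 2)
    {x y : R} (hx : x ∈ C) (hy : y ∈ C) (hx0 : x ∉ Z0) (hy0 : y ∉ Z0 ⊔ Subgroup.zpowers x) :
    ∀ c ∈ C, ∃ a b : ZMod p, ∃ d ∈ Z0, c = x ^ a.val * y ^ b.val * d := by
  intro c hc
  let π := QuotientGroup.mk' (Z0.subgroupOf C)
  have hcomm : ∀ u v : C ⧸ Z0.subgroupOf C, u * v = v * u := by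
    intro u v
    obtain ⟨a, rfl⟩ := QuotientGroup.mk'_surjective _ u
    obtain ⟨b, rfl⟩ := QuotientGroup.mk'_surjective _ v
    rw [← commutatorElement_eq_one_iff_mul_comm, ← map_commutatorElement, QuotientGroup.mk'_apply,
      QuotientGroup.eq_one_iff, Subgroup.mem_subgroupOf]
    exact hab a a.2 b b.2
  have hexp : ∀ u : C ⧸ Z0.subgroupOf C, u ^ p = 1 := by
    intro u
    obtain ⟨a, rfl⟩ := QuotientGroup.mk'_surjective _ u
    rw [← map_pow, QuotientGroup.mk'_apply, QuotientGroup.eq_one_iff, Subgroup.mem_subgroupOf]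
    exact hpow a a.2
  have h1 : π ⟨x, hx⟩ ≠ 1 := fun h =>
    hx0 (Subgroup.mem_subgroupOf.1 ((QuotientGroup.eq_one_iff _).1 h))
  have h2 : π ⟨y, hy⟩ ∉ Subgroup.zpowers (π ⟨x, hx⟩) := by
    rintro ⟨k, hk⟩
    have h : π ((⟨x, hx⟩ : C) ^ k) = π ⟨y, hy⟩ := by rw [map_zpow]; exact hk
    have h' : ((x ^ k)⁻¹ * y : R) ∈ Z0 := Subgroup.mem_subgroupOf.1 (QuotientGroup.eq.1 h)
    refine hy0 ?_
    rw [← mul_inv_cancel_left (x ^ k) y]
    exact mul_mem (Subgroup.mem_sup_right (zpow_mem (Subgroup.mem_zpowers x) k)) (Subgroup.mem_sup_left h')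
  obtain ⟨co, hco⟩ := exists_coord hcomm hexp hidx h1 h2
  obtain ⟨v, hv⟩ := co.surjective (π ⟨c, hc⟩)
  obtain ⟨v, rfl⟩ := Multiplicative.ofAdd.surjective v
  rw [hco, ← map_pow, ← map_pow, ← map_mul] at hv
  refine ⟨v 0, v 1, _, Subgroup.mem_subgroupOf.1 (QuotientGroup.eq.1 hv), ?_⟩
  show c = x ^ (v 0).val * y ^ (v 1).val * ((x ^ (v 0).val * y ^ (v 1).val)⁻¹ * c)
  rw [mul_inv_cancel_left]

/-- Small natural numbers are nonzero in `ZMod p`. -/
theorem natCast_ne_zero_of_lt {p n : ℕ} (hn : n ≠ 0) (h : n < p) : (n : ZMod p) ≠ 0 := fun h0 =>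
  hn (Nat.eq_zero_of_dvd_of_lt ((ZMod.natCast_eq_zero_iff n p).1 h0) h)

/-- The weights of the torus element. -/
theorem weights {p : ℕ} [Fact p.Prime] (hp : 5 ≤ p) :
    (2 : ZMod p) ≠ 0 ∧ (2 : ZMod p) * 2⁻¹ = 1 ∧ (2 : ZMod p) * 2 ≠ 1 ∧ (2 : ZMod p) ≠ 2⁻¹ ∧
      (2 : ZMod p)⁻¹ * 2⁻¹ ≠ 1 ∧ (2 : ZMod p)⁻¹ ≠ 0 := by
  have h2 : (2 : ZMod p) ≠ 0 := by exact_mod_cast natCast_ne_zero_of_lt (p := p) two_ne_zero (by omega)
  have h4 : (2 : ZMod p) * 2 ≠ 1 := by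
    intro h
    have h3 : ((3 : ℕ) : ZMod p) ≠ 0 := natCast_ne_zero_of_lt three_ne_zero (by omega)
    refine h3 ?_
    calc ((3 : ℕ) : ZMod p) = 2 * 2 - 1 := by push_cast; ring
      _ = 0 := by rw [h, sub_self]
  refine ⟨h2, mul_inv_cancel₀ h2, h4, fun h => h4 ?_, fun h => h4 ?_, inv_ne_zero h2⟩
  · nth_rewrite 2 [h]
    exact mul_inv_cancel₀ h2
  · rwa [← mul_inv, inv_eq_one] at h

variable {Ω : Type*} [Group Ω] {S : Subgroup Ω} [Finite S] {p : ℕ} [Fact p.Prime]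

/-- The configuration of an extraspecial group is impossible. -/
theorem false_of_extraspecial (hS : IsPGroup p S) (hp : 5 ≤ p) {F : Cfsg.FusionSystem S} (hF : F.IsSaturated p)
    (hr : RankTwo p S) {N : Subgroup Ω} (hNn : F.IsFullyNormalized N) (hNc : centralizerIn S N ≤ N)
    (hNS : N ≠ S) {a b z : N} (hz1 : z ≠ 1) (hab : a * b = z * b * a) (hz : ∀ x, z * x = x * z)
    (hexp : ∀ x : N, x ^ p = 1) (hcard : Nat.card N = p ^ 3)
    (hnorm : ∀ (g : Ω) (hg : g ∈ normalizerIn S N), (∀ x ∈ Subgroup.zpowers z ⊔ Subgroup.zpowers b,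
      conjAut hg.2 x ∈ Subgroup.zpowers z ⊔ Subgroup.zpowers b) → g ∈ N)
    {ψ : MulAut N} (hψ : ψ ∈ F.autGroup N) {β : ZMod p} (hβ : β * β ≠ 1) (hβ0 : β ≠ 0)
    (hψb : (b ^ β.val)⁻¹ * ψ b ∈ Subgroup.zpowers z) : False := by
  have hpp : p.Prime := Fact.out
  have : Finite N := finite_of_le hNn.1
  have : Finite (MulAut N) := finite_mulAut N
  have hord : orderOf z = p := orderOf_eq_prime (hexp z) hz1
  have hcen : Subgroup.zpowers z = Subgroup.center N := by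
    have hnc : ¬ ∀ x y : N, x * y = y * x := by
      intro h
      refine hz1 ?_
      have h1 := hab
      rw [h a b, mul_assoc, right_eq_mul] at h1
      exact h1
    refine Subgroup.eq_of_le_of_card_ge (Subgroup.zpowers_le.2 (Subgroup.mem_center_iff.2 fun x => (hz x).symm)) ?_
    rw [EssentialCube.card_center hcard hnc, Nat.card_zpowers, hord]
  set Z := Subgroup.zpowers z with hZ
  have hZn : Z.Normal := by rw [hcen]; infer_instance
  have hZc : Z.Characteristic := by rw [hcen]; infer_instance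
  have hZcard : Nat.card Z = p := by rw [hZ, Nat.card_zpowers, hord]
  have hQcard : Nat.card (N ⧸ Z) = p ^ 2 := by
    have h := Subgroup.card_eq_card_quotient_mul_card_subgroup Z
    rw [hcard, hZcard] at h
    exact Nat.eq_of_mul_eq_mul_right hpp.pos (h.symm.trans (pow_succ p 2))
  have hQcomm : ∀ x y : N ⧸ Z, x * y = y * x := (IsPGroup.isMulCommutative_of_card_eq_prime_sq hQcard).is_comm.comm
  have hQexp : ∀ x : N ⧸ Z, x ^ p = 1 := by
    intro x
    obtain ⟨w, rfl⟩ := QuotientGroup.mk'_surjective _ x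
    rw [← map_pow, hexp, map_one]
  let r : MulAut N →* MulAut (N ⧸ Z) :=
    MonoidHom.mk' (fun φ => QuotientGroup.congr Z Z φ (Subgroup.characteristic_iff_map_eq.1 hZc φ))
      fun φ χ => MulEquiv.ext fun q => by
        induction q using QuotientGroup.induction_on with
        | H c => rfl
  have hr' : ∀ (φ : MulAut N) (x : N), r φ (x : N ⧸ Z) = ((φ x : N) : N ⧸ Z) := fun _ _ => rfl
  have : Finite (MulAut (N ⧸ Z)) :=
    Finite.of_injective (fun φ : MulAut (N ⧸ Z) => (φ : N ⧸ Z → N ⧸ Z)) DFunLike.coe_injective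
  -- the fixed line of `N_S(N)`
  set P := (Cfsg.autInducedBy S N).map r
  have hP : IsPGroup p P := (isPGroup_autInducedBy hS N).map r
  obtain ⟨e, he, hne⟩ := hP.exists_fixed_point_of_prime_dvd_card_of_fixed_point (N ⧸ Z)
    (hQcard ▸ dvd_pow_self p two_ne_zero)
    (show (1 : N ⧸ Z) ∈ MulAction.fixedPoints P (N ⧸ Z) from fun g => map_one (g : MulAut (N ⧸ Z)))
  have he1 : e ≠ 1 := fun h => hne h.symm
  have hfixe : ∀ {g : Ω} (hg : g ∈ normalizerIn S N), r (conjAut hg.2) e = e := fun {g} hg =>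
    he ⟨_, Subgroup.mem_map_of_mem r (conjAut_mem_autInducedBy hg.2 hg.1)⟩
  obtain ⟨m, hm, hmN⟩ := Fusion.Alperin.exists_normalizing_not_mem hS hNn.1 hNS
  set a₀ := r (conjAut hm.2)
  have ha₀e : a₀ e = e := hfixe hm
  have hb₀ : a₀ (b : N ⧸ Z) ≠ (b : N ⧸ Z) := by
    intro h
    rw [hr', eq_comm, QuotientGroup.eq] at h
    have hle : Z ⊔ Subgroup.zpowers b ≤ (Z ⊔ Subgroup.zpowers b).comap (conjAut hm.2).toMonoidHom := by
      refine sup_le (fun x hx => Subgroup.mem_sup_left ?_) (Subgroup.zpowers_le.2 ?_)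
      · exact (Subgroup.characteristic_iff_map_le.1 hZc (conjAut hm.2)) ⟨x, hx, rfl⟩
      · show conjAut hm.2 b ∈ Z ⊔ Subgroup.zpowers b
        rw [← mul_inv_cancel_left b (conjAut hm.2 b)]
        exact mul_mem (Subgroup.mem_sup_right (Subgroup.mem_zpowers b)) (Subgroup.mem_sup_left h)
    exact hmN (hnorm m hm fun x hx => hle hx)
  have hbe : (b : N ⧸ Z) ∉ Subgroup.zpowers e := by
    rintro ⟨k, hk⟩
    apply hb₀
    rw [← hk]
    show a₀ (e ^ k) = e ^ k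
    rw [map_zpow, ha₀e]
  have horde : orderOf e = p := orderOf_eq_prime (hQexp e) he1
  have ha₀p : a₀ ^ p = 1 := by
    obtain ⟨k, hk⟩ := hP ⟨a₀, Subgroup.mem_map_of_mem r (conjAut_mem_autInducedBy hm.2 hm.1)⟩
    refine pow_eq_one_of_mem_lineStab hQexp (e := e) ⟨ha₀e, fun f => ?_⟩
    refine inv_mul_mem_of_relIndex (congrArg Subtype.val hk) ?_ ?_ (fun x _ => Subgroup.mem_top (a₀ x))
      (fun x hx => ?_) f (Subgroup.mem_top f)
    · exact ⟨fun x hx g => by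
        rwa [show g * x = x * g from Subtype.ext (hQcomm g.1 x.1), mul_inv_cancel_right]⟩
    · rw [EssentialRankTwo.relIndex_eq_of_card le_top (m := p)
        (by rw [Subgroup.card_top, hQcard, Nat.card_zpowers, horde, pow_two])]
    · obtain ⟨j, rfl⟩ := hx
      exact ⟨j, by simp [map_zpow, ha₀e]⟩
  obtain ⟨u₁, rfl⟩ := QuotientGroup.mk'_surjective _ e
  suffices hmain : ∃ (u₂ : N) (h : MulAut N) (α γ : ZMod p), h ∈ F.autGroup N ∧ α ≠ 0 ∧ γ * γ ≠ 1 ∧ γ ≠ 0 ∧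
      (u₂ : N ⧸ Z) ∉ Subgroup.zpowers (u₁ : N ⧸ Z) ∧ (u₁ ^ α.val)⁻¹ * h u₁ ∈ Z ∧
      (u₂ ^ γ.val)⁻¹ * h u₂ ∈ Z ⊔ Subgroup.zpowers u₁ by
    obtain ⟨u₂, h, α, γ, hh, hα, hγ, hγ0, hind, hh₁, hh₂⟩ := hmain
    have hu₁Z : u₁ ∉ Z := fun h => he1 ((QuotientGroup.eq_one_iff _).2 h)
    have hu₂Z : u₂ ∉ Z ⊔ Subgroup.zpowers u₁ := by
      intro h
      obtain ⟨d, hd, y, ⟨k, rfl⟩, rfl⟩ := Subgroup.mem_sup_of_normal_left.1 h
      refine hind ⟨k, ?_⟩
      show (u₁ : N ⧸ Z) ^ k = _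
      rw [← QuotientGroup.mk_zpow, QuotientGroup.mk_mul, (QuotientGroup.eq_one_iff d).2 hd, one_mul]
    have hform : ∀ c : N, ∃ i j : ZMod p, ∃ d ∈ Z, c = u₁ ^ i.val * u₂ ^ j.val * d := fun c =>
      exists_form (C := ⊤) (fun x _ y _ => by
          rw [← QuotientGroup.eq_one_iff, ← QuotientGroup.mk'_apply, map_commutatorElement,
            commutatorElement_eq_one_iff_mul_comm]
          exact hQcomm _ _)
        (fun x _ => by rw [hexp]; exact Z.one_mem) (by rw [Subgroup.relIndex_top_right]; exact hQcard)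
        (Subgroup.mem_top u₁) (Subgroup.mem_top u₂) hu₁Z hu₂Z c (Subgroup.mem_top c)
    have hzc : ∀ d ∈ Z, ∀ x : N, d * x = x * d := fun d hd x =>
      (Subgroup.mem_center_iff.1 (hcen ▸ hd) x).symm
    set z' := ⁅u₁, u₂⁆ with hz'
    have hz'Z : z' ∈ Z := by
      rw [← QuotientGroup.eq_one_iff, ← QuotientGroup.mk'_apply, map_commutatorElement,
        commutatorElement_eq_one_iff_mul_comm]
      exact hQcomm _ _
    have hz'1 : z' ≠ 1 := by
      intro h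
      have hc : Commute u₁ u₂ := commutatorElement_eq_one_iff_mul_comm.1 h
      refine hu₁Z (hcen ▸ Subgroup.mem_center_iff.2 fun c => ?_)
      obtain ⟨i, j, d, hd, rfl⟩ := hform c
      exact ((((Commute.refl u₁).pow_right i.val).mul_right (hc.pow_right j.val)).mul_right
        (hzc d hd u₁).symm).eq.symm
    have hz'Ω : (z' : Ω) ≠ 1 := fun h => hz'1 (Subtype.ext h)
    have hzz' : Z ≤ Subgroup.zpowers z' := (Subgroup.eq_of_le_of_card_ge (Subgroup.zpowers_le.2 hz'Z)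
      (by rw [hZcard, Nat.card_zpowers, orderOf_eq_prime (hexp _) hz'1])).ge
    let D := Z.map N.subtype
    have hDcyc : IsCyclic D := by
      refine isCyclic_of_surjective (N.subtype.subgroupMap Z) ?_
      exact N.subtype.subgroupMap_surjective Z
    have hDz' : D ≤ Subgroup.zpowers (z' : Ω) := by
      rintro _ ⟨w, hw, rfl⟩
      obtain ⟨k, rfl⟩ := hzz' hw
      exact ⟨k, by simp⟩
    refine false_of_weights hS (by omega) hF hr hNc hNn hNS (u₁ := u₁) (u₂ := u₂) (z := (z' : Ω)) u₁.2 u₂.2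
      (congrArg Subtype.val (hexp u₁)) (congrArg Subtype.val (hexp u₂)) hz'Ω
      (congrArg Subtype.val (hexp z')) ?_ (D := D) (Subgroup.map_subtype_le Z) ?_ ⟨z', hz'Z, rfl⟩ ?_ ?_
      hh hα hγ hγ0 ?_ ?_ (Or.inr hDz')
    · show (u₁ : Ω) * u₂ = ((⁅u₁, u₂⁆ : N) : Ω) * u₂ * u₁
      simp only [commutatorElement_def, Subgroup.coe_mul, Subgroup.coe_inv]
      group
    · intro x hx
      constructor
      · rintro ⟨w, hw, rfl⟩ y hy
        exact congrArg Subtype.val (hzc w hw ⟨y, hy⟩)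
      · exact fun h => ⟨⟨x, hx⟩, hcen ▸ Subgroup.mem_center_iff.2 fun y => Subtype.ext (h y y.2).symm, rfl⟩
    · intro x hx
      obtain ⟨i, j, d, hd, hxd⟩ := hform ⟨x, hx⟩
      exact ⟨i, j, d, ⟨d, hd, rfl⟩, by simpa using congrArg Subtype.val hxd⟩
    · intro x hx
      have h1 := hfixe hx
      rw [QuotientGroup.mk'_apply, hr', eq_comm, QuotientGroup.eq] at h1
      have h2 := hZn.conj_mem _ h1 u₁
      rw [mul_inv_cancel_left] at h2
      exact hDz' ⟨_, h2, rfl⟩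
    · exact hDz' ⟨_, hh₁, by simp⟩
    · have hle : (Z ⊔ Subgroup.zpowers u₁).map N.subtype ≤ Subgroup.closure ({(u₁ : Ω), (z' : Ω)} : Set Ω) := by
        rw [Subgroup.map_sup, sup_le_iff]
        refine ⟨hDz'.trans (Subgroup.zpowers_le.2 (Subgroup.subset_closure (by simp))), ?_⟩
        rw [MonoidHom.map_zpowers, Subgroup.zpowers_le]
        exact Subgroup.subset_closure (by simp)
      exact hle ⟨_, hh₂, by simp⟩
  rw [QuotientGroup.mk'_apply] at he1 hbe ha₀e horde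
  obtain ⟨-, h22, -, -, hβ2, hi2⟩ := weights (p := p) hp
  by_cases hall : ∀ φ ∈ F.autGroup N, r φ (u₁ : N ⧸ Z) ∈ Subgroup.zpowers (u₁ : N ⧸ Z)
  · obtain ⟨α, hα⟩ := (mem_zpowers_iff_val (hQexp _)).1 (hall ψ hψ)
    refine ⟨b, ψ, α, β, hψ, fun h => he1 ?_, hβ, hβ0, hbe, ?_, Subgroup.mem_sup_left hψb⟩
    · rw [h, ZMod.val_zero, pow_zero, ← map_one (r ψ)] at hα
      exact (r ψ).injective hα
    · rw [hr', ← QuotientGroup.mk_pow, eq_comm, QuotientGroup.eq] at hα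
      exact hα
  · push Not at hall
    obtain ⟨g, hg, hge⟩ := hall
    obtain ⟨f, hf, hdiag⟩ := exists_diag hQcomm hQexp hQcard (X := (F.autGroup N).map r)
      (Subgroup.mem_map_of_mem r (autInducedBy_le_autGroup F hNn.1 (conjAut_mem_autInducedBy hm.2 hm.1)))
      (fun h => hb₀ (by rw [show a₀ = 1 from h, MulAut.one_apply]))
      ha₀p he1 ha₀e (Subgroup.mem_map_of_mem r hg) hge
    obtain ⟨u₂, rfl⟩ := QuotientGroup.mk'_surjective _ f
    obtain ⟨_, ⟨h, hh, rfl⟩, he', hf'⟩ := hdiag 2 2⁻¹ h22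
    refine ⟨u₂, h, 2, 2⁻¹, hh, fun h0 => hi2 (by rw [h0, inv_zero]), hβ2, hi2, hf, ?_, ?_⟩
    · rw [hr', ← QuotientGroup.mk_pow, eq_comm, QuotientGroup.eq] at he'
      exact he'
    · rw [QuotientGroup.mk'_apply, hr', ← QuotientGroup.mk_pow, eq_comm, QuotientGroup.eq] at hf'
      exact Subgroup.mem_sup_left hf'

end CfsgLib.Fus.RankTwoResistant
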