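import Cfsg.Agent.Fus.RankTwoResistant.Small
import Cfsg.Agent.Fusion.Alperin.Criteria

/-!
A `p`-group of rank two, `p ≥ 5`, that is not extraspecial of order `p ^ 3` and exponent `p` is resistant.
-/

set_option autoImplicit false
set_option maxHeartbeats 1000000

namespace CfsgLib.Fus.RankTwoResistant

open Cfsg Cfsg.FusionSystem CfsgLib.Fus CfsgLib.Fus.EssentialSmall CfsgLib.Fus.EssentialRankTwo
open scoped commutatorElement

variable {Ω : Type*} [Group Ω] {S : Subgroup Ω} [Finite S] {p : ℕ} [Fact p.Prime]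

/-- A detector of order `p ^ 3` is incompatible with being essential. -/
theorem false_of_card_cube (hS : IsPGroup p S) (hp : 5 ≤ p) {F : Cfsg.FusionSystem S} (hF : F.IsSaturated p)
    (hr : RankTwo p S) {E : Subgroup Ω} (hE : F.IsEssential p E) (hES : E ≠ S) (C : Subgroup E)
    (hCinv : ∀ φ : MulAut E, ∀ x ∈ C, φ x ∈ C) (hCexp : ∀ x ∈ C, x ^ p = 1)
    (hCcard : Nat.card C = p ^ 3) (hZcard : Nat.card ((Subgroup.center C).map C.subtype) = p)
    (hcomm : ∀ a ∈ C, ∀ b ∈ C, ⁅a, b⁆ ∈ (Subgroup.center C).map C.subtype)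
    (hdet : ∀ σ : MulAut E, (orderOf σ).Coprime p → (∀ c ∈ C, σ c = c) → σ = 1) : False := by
  have hpp : p.Prime := Fact.out
  have hES' : E ≤ S := hE.1.1
  have : Finite E := finite_of_le hES'
  have : Finite (MulAut E) := finite_mulAut E
  set Z0 := (Subgroup.center C).map C.subtype with hZ0
  have hZC : Z0 ≤ C := Subgroup.map_subtype_le _
  have hZc : ∀ d ∈ Z0, ∀ c ∈ C, d * c = c * d := by
    rintro _ ⟨d, hd, rfl⟩ c hc
    exact (congrArg Subtype.val (Subgroup.mem_center_iff.1 hd ⟨c, hc⟩)).symm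
  have hZmem : ∀ d ∈ C, (∀ c ∈ C, d * c = c * d) → d ∈ Z0 := fun d hd h =>
    ⟨⟨d, hd⟩, Subgroup.mem_center_iff.2 fun c => Subtype.ext (h c c.2).symm, rfl⟩
  have hZinv : ∀ φ : MulAut E, ∀ x ∈ Z0, φ x ∈ Z0 := by
    intro φ x hx
    refine hZmem _ (hCinv φ x (hZC hx)) fun c hc => ?_
    have h := congrArg φ (hZc x hx _ (hCinv φ⁻¹ c hc))
    rwa [map_mul, map_mul, MulAut.apply_inv_self] at h
  have hZn : Z0.Normal := ⟨fun x hx g => hZinv (MulAut.conj g) x hx⟩
  have hidx : Z0.relIndex C = p ^ 2 :=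
    EssentialRankTwo.relIndex_eq_of_card hZC (by rw [hCcard, hZcard, ← pow_succ])
  -- automorphisms trivial modulo `Z0` fix `Z0`
  have hnc : ∃ x ∈ C, ∃ y ∈ C, ⁅x, y⁆ ≠ 1 := by
    by_contra h
    push Not at h
    have : C ≤ Z0 := fun x hx => hZmem x hx fun y hy => commutatorElement_eq_one_iff_mul_comm.1 (h x hx y hy)
    have h1 := Subgroup.card_le_of_le this
    rw [hCcard, hZcard] at h1
    exact absurd h1 (not_le.2 (lt_self_pow₀ hpp.one_lt (by norm_num)))
  have hfixZ : ∀ b : MulAut E, (∀ c ∈ C, c⁻¹ * b c ∈ Z0) → ∀ d ∈ Z0, b d = d := by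
    intro b hb d hd
    obtain ⟨x, hx, y, hy, hxy⟩ := hnc
    have hbw : b ⁅x, y⁆ = ⁅x, y⁆ := by
      obtain ⟨z₁, hz₁, ex⟩ : ∃ z₁ ∈ Z0, b x = x * z₁ := ⟨_, hb x hx, (mul_inv_cancel_left _ _).symm⟩
      obtain ⟨z₂, hz₂, ey⟩ : ∃ z₂ ∈ Z0, b y = y * z₂ := ⟨_, hb y hy, (mul_inv_cancel_left _ _).symm⟩
      have c1 : Commute z₁ (y * z₂) := hZc z₁ hz₁ _ (mul_mem hy (hZC hz₂))
      have c2 : Commute z₂ x⁻¹ := hZc z₂ hz₂ _ (inv_mem hx)
      rw [map_commutatorElement, ex, ey, commutatorElement_def, commutatorElement_def]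
      calc x * z₁ * (y * z₂) * (x * z₁)⁻¹ * (y * z₂)⁻¹
          = x * (z₁ * (y * z₂)) * z₁⁻¹ * x⁻¹ * z₂⁻¹ * y⁻¹ := by group
        _ = x * y * (z₂ * x⁻¹) * z₂⁻¹ * y⁻¹ := by rw [c1.eq]; group
        _ = x * y * x⁻¹ * y⁻¹ := by rw [c2.eq]; group
    have heq : Subgroup.zpowers ⁅x, y⁆ = Z0 := Subgroup.eq_of_le_of_card_ge
      (Subgroup.zpowers_le.2 (hcomm x hx y hy)) (by
        rw [hZcard, Nat.card_zpowers, orderOf_eq_prime (hCexp _ (hZC (hcomm x hx y hy))) hxy])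
    rw [← heq] at hd
    obtain ⟨k, rfl⟩ := hd
    rw [map_zpow, hbw]
  obtain ⟨hcen, -, u₁, hu₁, u₂, hu₂, hu₁1, hu₂1, hfix, htorus⟩ := exists_torus hS hF hE C Z0
    (fun a _ => hCinv a) (fun a _ => hZinv a) hcomm (fun c hc => by rw [hCexp c hc]; exact Z0.one_mem) hidx
    fun b _ hb => by
      obtain ⟨k, hk⟩ := exists_pow_eq_one_of_detects (b := b ^ p) hdet fun c hc => by
        rw [Fusion.Alperin.pow_fix_mul (mul_inv_cancel_left c (b c)).symm (hfixZ b hb _ (hb c hc)),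
          hCexp _ (hZC (hb c hc)), mul_one]
      exact ⟨k + 1, by rw [pow_succ', pow_mul, hk]⟩
  have hu₁p := hCexp u₁ hu₁
  have hu₂p := hCexp u₂ hu₂
  have hcomm' : ∀ a ∈ C, ∀ b ∈ C, ⁅a, b⁆ ∈ Z0 := hcomm
  have hpow : ∀ c ∈ C, c ^ p ∈ Z0 := fun c hc => by rw [hCexp c hc]; exact Z0.one_mem
  have hform := exists_form hcomm' hpow hidx hu₁ hu₂ hu₁1 hu₂1
  set z := ⁅u₁, u₂⁆ with hzdef
  have hzZ : z ∈ Z0 := hcomm u₁ hu₁ u₂ hu₂
  have hzp : z ^ p = 1 := hCexp z (hZC hzZ)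
  have huv : u₁ * u₂ = z * u₂ * u₁ := by rw [hzdef, commutatorElement_def]; group
  have hz1 : z ≠ 1 := by
    intro h
    have hc : Commute u₁ u₂ := commutatorElement_eq_one_iff_mul_comm.1 h
    refine hu₁1 (hZmem u₁ hu₁ fun c hc' => ?_)
    obtain ⟨a, b, d, hd, rfl⟩ := hform c hc'
    exact ((((Commute.refl u₁).pow_right a.val).mul_right (hc.pow_right b.val)).mul_right
      (hZc d hd u₁ hu₁).symm).eq
  have hZz : Subgroup.zpowers z = Z0 := Subgroup.eq_of_le_of_card_ge (Subgroup.zpowers_le.2 hzZ)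
    (by rw [hZcard, Nat.card_zpowers, orderOf_eq_prime hzp hz1])
  have hzx : ∀ x : E, ∀ d ∈ Z0, x * d = d * x := fun x d hd => by
    have h := hfixZ (MulAut.conj x) (fun c hc => hcen x c hc) d hd
    rw [MulAut.conj_apply, mul_inv_eq_iff_eq_mul] at h
    exact h
  have hu₁z : u₁ * z = z * u₁ := hzx u₁ z hzZ
  have hu₂z : u₂ * z = z * u₂ := hzx u₂ z hzZ
  -- `E = C C_E(C)`
  set D := Subgroup.centralizer (C : Set E) with hDdef
  have hgen : ∀ x : E, ∃ a b : ZMod p, ∃ d ∈ D, x = u₁ ^ a.val * u₂ ^ b.val * d := by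
    intro x
    obtain ⟨i, hi⟩ := (mem_zpowers_iff_val hzp).1 (hZz.symm ▸ hcen x u₁ hu₁)
    obtain ⟨j, hj⟩ := (mem_zpowers_iff_val hzp).1 (hZz.symm ▸ hcen x u₂ hu₂)
    have hx₁ : x * u₁ * x⁻¹ = u₁ * z ^ i.val := by rw [← hi, mul_inv_cancel_left]
    have hx₂ : x * u₂ * x⁻¹ = u₂ * z ^ j.val := by rw [← hj, mul_inv_cancel_left]
    set c := u₁ ^ j.val * u₂ ^ (-i).val
    have hzi : ∀ n : ℕ, Commute u₁ (z ^ n) := fun n => (show Commute u₁ z from hu₁z).pow_right n
    have hzj : ∀ n : ℕ, Commute u₂ (z ^ n) := fun n => (show Commute u₂ z from hu₂z).pow_right n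
    have hc₁ : c * u₁ = u₁ * z ^ i.val * c := by
      have h1 := commute_pow_right huv hu₂z (-i).val
      have h2 : u₂ ^ (-i).val * u₁ = z ^ i.val * (u₁ * u₂ ^ (-i).val) := by
        rw [h1, ← mul_assoc, ← mul_assoc, ← pow_val_add hzp]
        simp
      calc c * u₁ = u₁ ^ j.val * (u₂ ^ (-i).val * u₁) := mul_assoc _ _ _
        _ = z ^ i.val * (u₁ ^ j.val * u₁) * u₂ ^ (-i).val := by
            rw [h2, ← mul_assoc, ((hzi i.val).pow_left j.val).eq]; group
        _ = u₁ * z ^ i.val * c := by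
            rw [((Commute.refl u₁).pow_left j.val).eq, (hzi i.val).eq]; simp only [c]; group
    have hc₂ : c * u₂ = u₂ * z ^ j.val * c := by
      calc c * u₂ = u₁ ^ j.val * u₂ * u₂ ^ (-i).val := by
            rw [mul_assoc, ((Commute.refl u₂).pow_left (-i).val).eq]; group
        _ = u₂ * z ^ j.val * c := by
            rw [commute_pow_left huv hu₁z j.val, (hzj j.val).eq]; simp only [c]; group
    refine ⟨j, -i, c⁻¹ * x, Subgroup.mem_centralizer_iff.2 fun w hw => ?_, (mul_inv_cancel_left _ _).symm⟩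
    have hy₁ : Commute (c⁻¹ * x) u₁ := by
      show c⁻¹ * x * u₁ = u₁ * (c⁻¹ * x)
      calc c⁻¹ * x * u₁ = c⁻¹ * (x * u₁ * x⁻¹) * x := by group
        _ = c⁻¹ * (u₁ * z ^ i.val * c) * c⁻¹ * x := by rw [hx₁]; group
        _ = u₁ * (c⁻¹ * x) := by rw [← hc₁]; group
    have hy₂ : Commute (c⁻¹ * x) u₂ := by
      show c⁻¹ * x * u₂ = u₂ * (c⁻¹ * x)
      calc c⁻¹ * x * u₂ = c⁻¹ * (x * u₂ * x⁻¹) * x := by group
        _ = c⁻¹ * (u₂ * z ^ j.val * c) * c⁻¹ * x := by rw [hx₂]; group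
        _ = u₂ * (c⁻¹ * x) := by rw [← hc₂]; group
    obtain ⟨a, b, d, hd, rfl⟩ := hform w hw
    exact (((hy₁.pow_right a.val).mul_right (hy₂.pow_right b.val)).mul_right (hzx _ d hd)).eq.symm
  -- the plane through `u₁` and `Z0`
  set T := Z0 ⊔ Subgroup.zpowers u₁ with hT
  have hTC : T ≤ C := sup_le hZC (Subgroup.zpowers_le.2 hu₁)
  have hTform : ∀ t ∈ T, ∃ d ∈ Z0, ∃ k : ℤ, t = d * u₁ ^ k := fun t ht => by
    obtain ⟨d, hd, _, ⟨k, rfl⟩, rfl⟩ := Subgroup.mem_sup_of_normal_left.1 ht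
    exact ⟨d, hd, k, rfl⟩
  have hTc : ∀ a ∈ T, ∀ b ∈ T, a * b = b * a := by
    intro a ha b hb
    obtain ⟨d, hd, k, rfl⟩ := hTform a ha
    obtain ⟨d', hd', k', rfl⟩ := hTform b hb
    exact ((((show Commute d d' from hZc d hd d' (hZC hd')).mul_right
      ((show Commute d u₁ from (hzx u₁ d hd).symm).zpow_right k')).mul_left
      (((show Commute u₁ d' from hzx u₁ d' hd').zpow_left k).mul_right
        ((Commute.refl u₁).zpow_zpow k k')))).eq
  have hTcard : Nat.card T = p ^ 2 := by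
    obtain ⟨n, hn, hTn⟩ := (Nat.dvd_prime_pow hpp).1 (hCcard ▸ Subgroup.card_dvd_of_le hTC)
    have h1 : Nat.card Z0 < Nat.card T := lt_of_not_ge fun h => hu₁1 (by
      rw [Subgroup.eq_of_le_of_card_ge le_sup_left h]
      exact Subgroup.mem_sup_right (Subgroup.mem_zpowers u₁))
    have h2 : Nat.card T < Nat.card C := lt_of_not_ge fun h => hu₂1 (by
      rw [Subgroup.eq_of_le_of_card_ge hTC h]
      exact hu₂)
    rw [hZcard, hTn] at h1
    rw [hCcard, hTn, Nat.pow_lt_pow_iff_right hpp.one_lt] at h2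
    have h3 : 1 < n := (Nat.pow_lt_pow_iff_right hpp.one_lt).1 (by rwa [pow_one])
    rw [hTn, show n = 2 by omega]
  have hT'c : ∀ a ∈ T.map E.subtype, ∀ b ∈ T.map E.subtype, a * b = b * a := by
    rintro _ ⟨a, ha, rfl⟩ _ ⟨b, hb, rfl⟩
    exact congrArg Subtype.val (hTc a ha b hb)
  have hT'p : ∀ a ∈ T.map E.subtype, a ^ p = 1 := by
    rintro _ ⟨a, ha, rfl⟩
    exact congrArg Subtype.val (hCexp a (hTC ha))
  -- `D` is cyclic
  have hΩ1 : ∀ w ∈ D, w ^ p = 1 → w ∈ Z0 := by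
    intro w hw hwp
    have hwc : ∀ c ∈ C, c * w = w * c := Subgroup.mem_centralizer_iff.1 hw
    have hwT : w ∈ T := (Subgroup.mem_map_iff_mem E.subtype_injective).1
      (mem_of_elementary hr ((Subgroup.map_subtype_le T).trans hES') hT'c hT'p
        (by rw [Subgroup.card_map_of_injective E.subtype_injective, hTcard]) (hES' w.2)
        (congrArg Subtype.val hwp) (by
          rintro _ ⟨a, ha, rfl⟩
          exact congrArg Subtype.val (hwc a (hTC ha))))
    exact hZmem w (hTC hwT) fun c hc => (hwc c hc).symm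
  have hDcyc : IsCyclic D := by
    refine PGroup.isCyclic_of_unique_subgroup (by omega) ((hS.to_le hES').to_subgroup D) fun v w hv hw => ?_
    have key : ∀ w : D, orderOf w = p → (w : E) ∈ Z0 := fun w hw =>
      hΩ1 w w.2 (congrArg Subtype.val (hw ▸ pow_orderOf_eq_one w : w ^ p = 1))
    have hvz : Subgroup.zpowers (v : E) = Z0 := Subgroup.eq_of_le_of_card_ge
      (Subgroup.zpowers_le.2 (key v hv)) (by rw [hZcard, Nat.card_zpowers, Subgroup.orderOf_coe, hv])
    obtain ⟨k, hk⟩ : (w : E) ∈ Subgroup.zpowers (v : E) := hvz ▸ key w hw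
    exact ⟨k, Subtype.ext (by simpa using hk)⟩
  have hDcomm : ∀ a ∈ D, ∀ b ∈ D, a * b = b * a := fun a ha b hb => by
    let := hDcyc.commGroup
    exact congrArg Subtype.val (mul_comm (⟨a, ha⟩ : D) ⟨b, hb⟩)
  have hDcen : ∀ x : E, x ∈ D ↔ ∀ y : E, x * y = y * x := by
    intro x
    refine ⟨fun hx y => ?_, fun h => Subgroup.mem_centralizer_iff.2 fun c _ => (h c).symm⟩
    obtain ⟨a, b, d, hd, rfl⟩ := hgen y
    have hxc : ∀ c ∈ C, Commute x c := fun c hc => (Subgroup.mem_centralizer_iff.1 hx c hc).symm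
    exact (((hxc u₁ hu₁).pow_right _).mul_right ((hxc u₂ hu₂).pow_right _)).mul_right
      (hDcomm x hx d hd) |>.eq
  let D' := D.map E.subtype
  have : IsCyclic D' := isCyclic_of_surjective (E.subtype.subgroupMap D) (E.subtype.subgroupMap_surjective D)
  obtain ⟨w2, h22, -, hne, hβ, hβ0⟩ := weights (p := p) hp
  obtain ⟨h, hh, hh₁, hh₂⟩ := htorus 2 2⁻¹ h22
  have hZ' : ∀ d ∈ Z0, (d : Ω) ∈ Subgroup.zpowers (z : Ω) := by
    intro d hd
    obtain ⟨k, rfl⟩ := hZz.ge hd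
    exact ⟨k, by simp⟩
  refine false_of_weights hS (by omega) hF hr (hE.1.2 E (isConj_refl F hES')) hE.2.1 hES (u₁ := (u₁ : Ω))
    (u₂ := (u₂ : Ω)) (z := (z : Ω)) u₁.2 u₂.2 (congrArg Subtype.val hu₁p) (congrArg Subtype.val hu₂p)
    (fun h => hz1 (Subtype.ext h)) (congrArg Subtype.val hzp) (congrArg Subtype.val huv) (D := D')
    (Subgroup.map_subtype_le D) ?_ ⟨z, (hDcen z).2 fun y => (hzx y z hzZ).symm, rfl⟩ ?_ ?_ hh w2 hβ hβ0 ?_ ?_
    (Or.inl hne)
  · intro x hx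
    constructor
    · rintro ⟨w, hw, rfl⟩ y hy
      exact congrArg Subtype.val ((hDcen w).1 hw ⟨y, hy⟩)
    · exact fun h => ⟨⟨x, hx⟩, (hDcen _).2 fun y => Subtype.ext (h y y.2), rfl⟩
  · intro x hx
    obtain ⟨a, b, d, hd, hxd⟩ := hgen ⟨x, hx⟩
    exact ⟨a, b, d, ⟨d, hd, rfl⟩, by simpa using congrArg Subtype.val hxd⟩
  · intro x hx
    have h1 := hZn.conj_mem _ (hfix _ (conjAut_mem_autInducedBy hx.2 hx.1)) u₁
    rw [mul_inv_cancel_left] at h1
    exact hZ' _ h1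
  · exact hZ' _ hh₁
  · exact (Subgroup.zpowers_le.2 (Subgroup.subset_closure (by simp))) (hZ' _ hh₂)

/-- In rank two with `p ≥ 5` and `S` not extraspecial, every essential subgroup is `S`. -/
theorem eq_of_isEssential (hS : IsPGroup p S) (hp : 5 ≤ p) {F : Cfsg.FusionSystem S} (hF : F.IsSaturated p)
    (hr : RankTwo p S) (hnotE : ¬ (Nat.card S = p ^ 3 ∧ Monoid.exponent ↥S = p))
    {E : Subgroup Ω} (hE : F.IsEssential p E) : E = S := by
  by_contra hES
  have hpp : p.Prime := Fact.out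
  have hES' : E ≤ S := hE.1.1
  have : Finite E := finite_of_le hES'
  have : Finite (MulAut E) := finite_mulAut E
  obtain ⟨C, hCchar, hCexp, hcl, hdet⟩ := exists_detector (p := p) (hS.to_le hES') (by omega)
  have hCinv : ∀ φ : MulAut E, ∀ x ∈ C, φ x ∈ C := fun φ x hx =>
    (Subgroup.characteristic_iff_map_le.1 hCchar φ) ⟨x, hx, rfl⟩
  have hrE : RankTwo p (⊤ : Subgroup E) := by
    intro A _ hAc hAp
    have h := hr (A.map E.subtype) ((Subgroup.map_subtype_le A).trans hES') ?_ ?_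
    · rwa [Subgroup.card_map_of_injective E.subtype_injective] at h
    · rintro _ ⟨a, ha, rfl⟩ _ ⟨b, hb, rfl⟩
      exact congrArg Subtype.val (hAc a ha b hb)
    · rintro _ ⟨a, ha, rfl⟩
      exact congrArg Subtype.val (hAp a ha)
  rcases detector_shape (S := (⊤ : Subgroup E)) ((hS.to_le hES').to_subgroup _) hrE le_top hCexp hcl with
    ⟨hCc, hCle⟩ | ⟨hC3, hZ, hcomm⟩
  · obtain ⟨i, hi⟩ := IsPGroup.iff_card.1 ((hS.to_le hES').to_subgroup C)
    rw [hi, Nat.pow_le_pow_iff_right hpp.one_lt] at hCle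
    rcases (show i ≤ 1 ∨ i = 2 by omega) with hi1 | rfl
    · -- the `p`-elements centralize `C`
      let K : Subgroup (F.autGroup E) :=
        { carrier := {a | ∀ c ∈ C, (a : MulAut E) c = c}
          one_mem' := fun c _ => rfl
          mul_mem' := fun {a b} ha hb c hc => by
            show (a : MulAut E) ((b : MulAut E) c) = c
            rw [hb c hc, ha c hc]
          inv_mem' := fun {a} ha c hc => by
            show (a : MulAut E).symm c = c
            conv_lhs => rw [← ha c hc]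
            exact (a : MulAut E).symm_apply_apply c }
      have hKn : K.Normal := ⟨fun a ha g c hc => by
        show (g : MulAut E) ((a : MulAut E) ((g : MulAut E)⁻¹ c)) = c
        rw [ha _ (hCinv _ c hc), MulAut.apply_inv_self]⟩
      have hKp : IsPGroup p K := fun a => by
        obtain ⟨k, hk⟩ := exists_pow_eq_one_of_detects hdet a.2
        exact ⟨k, Subtype.ext (Subtype.ext hk)⟩
      obtain ⟨P⟩ := Sylow.nonempty (p := p) (G := F.autGroup E)
      have hPK : (P : Subgroup (F.autGroup E)) ≤ K := by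
        intro a ha c hc
        obtain ⟨k, hk⟩ := P.isPGroup' ⟨a, ha⟩
        have hk' : (a : MulAut E) ^ p ^ k = 1 :=
          congrArg (fun q : (P : Subgroup (F.autGroup E)) => ((q : F.autGroup E) : MulAut E)) hk
        have h := inv_mul_mem_of_relIndex hk' (N := ⊥) (M := C) inferInstance
          (by rw [Subgroup.relIndex_bot_left, hi]; exact (pow_dvd_pow p hi1).trans (pow_one p).dvd)
          (hCinv _) (fun x hx => by rw [Subgroup.mem_bot] at hx ⊢; rw [hx, map_one]) c hc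
        rw [Subgroup.mem_bot, inv_mul_eq_one] at h
        exact h.symm
      exact not_normal_sylow hE P (P.is_maximal' hKp hPK ▸ hKn)
    · exact false_of_card_sq hS hp hF hr hnotE hE hES C hCinv hCexp hCc hi hdet
  · exact false_of_card_cube hS hp hF hr hE hES C hCinv hCexp hC3 hZ hcomm hdet

/-- Resistance. -/
theorem isNormal_top (hS : IsPGroup p S) (hp : 5 ≤ p) {F : Cfsg.FusionSystem S} (hF : F.IsSaturated p)
    (hr : RankTwo p S) (hnotE : ¬ (Nat.card S = p ^ 3 ∧ Monoid.exponent ↥S = p)) : F.IsNormal S :=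
  (Fusion.Alperin.isNormal_top_iff hS hF).2 fun _ hR =>
    hR.top_or_essential.elim id (eq_of_isEssential hS hp hF hr hnotE)

end CfsgLib.Fus.RankTwoResistant
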