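import Cfsg.Agent.Fus.EssentialRankTwo

/-!
Automorphism groups of a plane over `𝔽_p` containing a transvection and moving its line: diagonal elements.
-/

set_option autoImplicit false

namespace CfsgLib.Fus.RankTwoResistant

open CfsgLib.Fus.EssentialSmall CfsgLib.Fus.EssentialRankTwo
open scoped Matrix

variable {R : Type*} [Group R] [Finite R] {p : ℕ} [Fact p.Prime]

theorem exists_diag (hcomm : ∀ x y : R, x * y = y * x) (hexp : ∀ x : R, x ^ p = 1)
    (hcard : Nat.card R = p ^ 2) {X : Subgroup (MulAut R)} {a : MulAut R} (haA : a ∈ X) (ha1 : a ≠ 1)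
    (hap : a ^ p = 1) {e : R} (he1 : e ≠ 1) (hae : a e = e) {g : MulAut R} (hgA : g ∈ X)
    (hg : g e ∉ Subgroup.zpowers e) :
    ∃ f : R, f ∉ Subgroup.zpowers e ∧ ∀ u w : ZMod p, u * w = 1 →
      ∃ h ∈ X, h e = e ^ u.val ∧ h f = f ^ w.val := by
  set b : MulAut R := g * a * g⁻¹
  have hbA : b ∈ X := mul_mem (mul_mem hgA haA) (inv_mem hgA)
  have hbp : b ^ p = 1 := by rw [conj_pow, hap, mul_one, mul_inv_cancel]
  have hbe : b (g e) = g e := by simp [b, hae]
  have hb1 : b ≠ 1 := fun h => ha1 (conj_eq_one_iff.1 h)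
  obtain ⟨c, hc⟩ := exists_coord hcomm hexp hcard he1 hg
  obtain ⟨i, hi⟩ := exists_transvection hcomm hexp hcard hap he1 hae (g e)
  obtain ⟨j, hj⟩ := exists_transvection hcomm hexp hcard hbp
    (fun h => he1 (g.injective (h.trans (map_one g).symm))) hbe e
  have hTa : slAction c (Matrix.SpecialLinearGroup.transvection Fin.zero_ne_one i) = a := by
    refine MulEquiv.ext fun x => ?_
    obtain ⟨v, rfl⟩ := c.surjective x
    obtain ⟨w, rfl⟩ := Multiplicative.ofAdd.surjective v
    rw [slAction_apply, hc, hc, map_mul, map_pow, map_pow, hae, hi,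
      Commute.mul_pow (hcomm _ _), ← pow_val_mul (hexp e), ← mul_assoc, ← pow_val_add (hexp e)]
    simp [Matrix.SpecialLinearGroup.transvection_coe, Matrix.mulVec, dotProduct, Fin.sum_univ_two,
      mul_comm]
  have hTb : slAction c (Matrix.SpecialLinearGroup.transvection Fin.zero_ne_one.symm j) = b := by
    refine MulEquiv.ext fun x => ?_
    obtain ⟨v, rfl⟩ := c.surjective x
    obtain ⟨w, rfl⟩ := Multiplicative.ofAdd.surjective v
    rw [slAction_apply, hc, hc, map_mul, map_pow, map_pow, hbe, hj,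
      Commute.mul_pow (hcomm _ _), ← pow_val_mul (hexp (g e)), hcomm (_ ^ (_ * _ : ZMod p).val), mul_assoc,
      ← pow_val_add (hexp (g e))]
    simp [Matrix.SpecialLinearGroup.transvection_coe, Matrix.mulVec, dotProduct, Fin.sum_univ_two,
      mul_comm, add_comm]
  have hi0 : i ≠ 0 := fun h => ha1 (by
    rw [← hTa, h, Matrix.SpecialLinearGroup.transvection_coeff_zero, map_one])
  have hj0 : j ≠ 0 := fun h => hb1 (by
    rw [← hTb, h, Matrix.SpecialLinearGroup.transvection_coeff_zero, map_one])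
  have htop : X.comap (slAction c) = ⊤ := by
    refine Classical.Linear.eq_top_of_transvection_mem fun r s hrs t => ?_
    fin_cases r <;> fin_cases s
    · exact absurd rfl hrs
    · exact slAction_transvection c Fin.zero_ne_one haA hi0 hTa t
    · exact slAction_transvection c Fin.zero_ne_one.symm hbA hj0 hTb t
    · exact absurd rfl hrs
  refine ⟨g e, hg, fun u w huw => ?_⟩
  let M : Matrix.SpecialLinearGroup (Fin 2) (ZMod p) :=
    ⟨!![u, 0; 0, w], by simp [Matrix.det_fin_two_of, huw]⟩
  refine ⟨slAction c M, Subgroup.mem_comap.1 (htop ▸ Subgroup.mem_top M), ?_, ?_⟩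
  · have h1 : c (Multiplicative.ofAdd ![1, 0]) = e := by rw [hc]; simp [ZMod.val_one]
    have h2 : slAction c M e = c (Multiplicative.ofAdd (M.1 *ᵥ ![1, 0])) :=
      (congrArg (slAction c M) h1.symm).trans (slAction_apply c M _)
    rw [h2, hc]
    simp [M, Matrix.mulVec, dotProduct, Fin.sum_univ_two]
  · have h1 : c (Multiplicative.ofAdd ![0, 1]) = g e := by rw [hc]; simp [ZMod.val_one]
    have h2 : slAction c M (g e) = c (Multiplicative.ofAdd (M.1 *ᵥ ![0, 1])) :=
      (congrArg (slAction c M) h1.symm).trans (slAction_apply c M _)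
    rw [h2, hc]
    simp [M, Matrix.mulVec, dotProduct, Fin.sum_univ_two]

end CfsgLib.Fus.RankTwoResistant
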