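import Cfsg.Agent.Fus.RankTwoResistant.Extraspecial
import Mathlib.GroupTheory.FixedPointFree
import Mathlib.GroupTheory.Exponent

/-!
An essential subgroup whose detector has order `p ^ 2`.
-/

set_option autoImplicit false
set_option maxHeartbeats 1000000

namespace CfsgLib.Fus.RankTwoResistant

open Cfsg Cfsg.FusionSystem CfsgLib.Fus CfsgLib.Fus.EssentialSmall CfsgLib.Fus.EssentialRankTwo
open scoped commutatorElement

/-- An automorphism fixing a detector has `p`-power order. -/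
theorem exists_pow_eq_one_of_detects {R : Type*} [Group R] [Finite R] {p : ℕ} [Fact p.Prime] {C : Subgroup R}
    (hdet : ∀ σ : MulAut R, (orderOf σ).Coprime p → (∀ c ∈ C, σ c = c) → σ = 1) {b : MulAut R}
    (hb : ∀ c ∈ C, b c = c) : ∃ k, b ^ p ^ k = 1 := by
  have hp : p.Prime := Fact.out
  have : Finite (MulAut R) := Finite.of_injective (fun φ : MulAut R => (φ : R → R)) DFunLike.coe_injective
  obtain ⟨k, m, hm, hkm⟩ :=
    Nat.exists_eq_pow_mul_and_not_dvd (orderOf_pos b).ne' p hp.ne_one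
  refine ⟨k, hdet _ ?_ fun c hc => ?_⟩
  · refine Nat.Coprime.coprime_dvd_left (orderOf_dvd_of_pow_eq_one (n := m) ?_) (hp.coprime_iff_not_dvd.2 hm).symm
    rw [← pow_mul, ← hkm, pow_orderOf_eq_one]
  · generalize p ^ k = n
    induction n with
    | zero => rfl
    | succ n ih => rw [pow_succ, MulAut.mul_apply, hb c hc, ih]

/-- A product whose second factor has order `p`, with central commutator of order `p`. -/
theorem mul_pow_eq {G : Type*} [Group G] {p : ℕ} [Fact p.Prime] (hp2 : p ≠ 2) {u v z : G}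
    (huv : u * v = z * v * u) (hzu : u * z = z * u) (hzv : v * z = z * v) (hv : v ^ p = 1) (hz : z ^ p = 1) :
    (u * v) ^ p = u ^ p := by
  have hc : ⁅u, v⁆ = z := by rw [commutatorElement_def, huv, mul_inv_cancel_right, mul_inv_cancel_right]
  have hid := PGroup.mul_pow_mul_commutatorElement (a := u) (b := v)
    (by rw [hc]; exact hzu.symm) (by rw [hc]; exact hzv.symm) p
  obtain ⟨m, hm⟩ := PGroup.dvd_choose_two_of_odd ((Fact.out : p.Prime).odd_of_ne_two hp2)
  rw [hc, hm, pow_mul, hz, one_pow, mul_one, hv, mul_one] at hid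
  exact hid

/-- A `p`-element fixing a point of a plane is a transvection. -/
theorem mem_lineStab_of_pow {R : Type*} [Group R] [Finite R] {p : ℕ} [Fact p.Prime]
    (hcomm : ∀ x y : R, x * y = y * x) (hexp : ∀ x : R, x ^ p = 1) (hcard : Nat.card R = p ^ 2) {e : R}
    (he1 : e ≠ 1) {τ : MulAut R} {k : ℕ} (hτ : τ ^ p ^ k = 1) (he : τ e = e) : τ ∈ lineStab e := by
  refine ⟨he, fun f => inv_mul_mem_of_relIndex hτ ?_ ?_ (fun x _ => Subgroup.mem_top (τ x))
    (fun x hx => ?_) f (Subgroup.mem_top f)⟩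
  · exact ⟨fun x hx g => by
      rwa [show g * x = x * g from Subtype.ext (hcomm g.1 x.1), mul_inv_cancel_right]⟩
  · rw [EssentialRankTwo.relIndex_eq_of_card le_top (m := p)
      (by rw [Subgroup.card_top, hcard, Nat.card_zpowers, orderOf_eq_prime (hexp e) he1, pow_two])]
  · obtain ⟨j, rfl⟩ := hx
    exact ⟨j, by simp [map_zpow, he]⟩

variable {Ω : Type*} [Group Ω] {S : Subgroup Ω} [Finite S] {p : ℕ} [Fact p.Prime]

/-- A detector of order `p ^ 2` makes `S` extraspecial. -/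
theorem false_of_card_sq (hS : IsPGroup p S) (hp : 5 ≤ p) {F : Cfsg.FusionSystem S} (hF : F.IsSaturated p)
    (hr : RankTwo p S) (hnotE : ¬ (Nat.card S = p ^ 3 ∧ Monoid.exponent ↥S = p))
    {E : Subgroup Ω} (hE : F.IsEssential p E) (hES : E ≠ S) (C : Subgroup E)
    (hCinv : ∀ φ : MulAut E, ∀ x ∈ C, φ x ∈ C) (hCexp : ∀ x ∈ C, x ^ p = 1)
    (hCcomm : ∀ a ∈ C, ∀ b ∈ C, a * b = b * a) (hCcard : Nat.card C = p ^ 2)
    (hdet : ∀ σ : MulAut E, (orderOf σ).Coprime p → (∀ c ∈ C, σ c = c) → σ = 1) : False := by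
  have hpp : p.Prime := Fact.out
  have hp2 : p ≠ 2 := by omega
  have hES' : E ≤ S := hE.1.1
  have : Finite E := finite_of_le hES'
  have : Finite (MulAut E) := finite_mulAut E
  obtain ⟨w2, h22, h41, -, hβ, hβ0⟩ := weights (p := p) hp
  have hidx : (⊥ : Subgroup E).relIndex C = p ^ 2 := by rw [Subgroup.relIndex_bot_left, hCcard]
  have hab : ∀ a ∈ C, ∀ b ∈ C, ⁅a, b⁆ ∈ (⊥ : Subgroup E) := fun a ha b hb => by
    rw [Subgroup.mem_bot, commutatorElement_eq_one_iff_mul_comm]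
    exact hCcomm a ha b hb
  have hpow : ∀ c ∈ C, c ^ p ∈ (⊥ : Subgroup E) := fun c hc => Subgroup.mem_bot.2 (hCexp c hc)
  obtain ⟨hcen, -, u₁, hu₁, u₂, hu₂, hu₁1, hu₂1, hfix, htorus⟩ := exists_torus hS hF hE C ⊥
    (fun a _ => hCinv a) (fun a _ x hx => by rw [Subgroup.mem_bot] at hx ⊢; rw [hx, map_one])
    hab hpow hidx fun b _ hb => exists_pow_eq_one_of_detects hdet fun c hc => by
      have h := hb c hc
      rw [Subgroup.mem_bot, inv_mul_eq_one] at h
      exact h.symm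
  have hcen' : ∀ x : E, ∀ c ∈ C, x * c = c * x := fun x c hc => by
    have h := hcen x c hc
    rw [Subgroup.mem_bot, inv_mul_eq_one] at h
    conv_rhs => rw [h]
    rw [inv_mul_cancel_right]
  have hu₁p := hCexp u₁ hu₁
  have hu₂p := hCexp u₂ hu₂
  -- an involution inverting `C`
  obtain ⟨h, hh, hh₁, hh₂⟩ := htorus (-1) (-1) (by ring)
  rw [Subgroup.mem_bot, inv_mul_eq_one] at hh₁ hh₂
  have hneg : ∀ {e : E}, e ^ p = 1 → e ^ (-1 : ZMod p).val = e⁻¹ := by
    intro e he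
    refine eq_inv_of_mul_eq_one_left ?_
    conv_lhs => arg 2; rw [← pow_one e]
    rw [← ZMod.val_one p, ← pow_val_add he, neg_add_cancel, ZMod.val_zero, pow_zero]
  rw [hneg hu₁p] at hh₁
  rw [hneg hu₂p] at hh₂
  have hinv : ∀ c ∈ C, h c = c⁻¹ := by
    intro c hc
    obtain ⟨a, b, d, hd, rfl⟩ := exists_form hab hpow hidx hu₁ hu₂ hu₁1 hu₂1 c hc
    rw [Subgroup.mem_bot.1 hd, mul_one, map_mul, map_pow, map_pow, ← hh₁, ← hh₂, inv_pow, inv_pow,
      ← mul_inv_rev, hCcomm _ (pow_mem hu₂ _) _ (pow_mem hu₁ _)]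
  have hhh : ∀ c ∈ C, (h * h) c = c := fun c hc => by
    rw [MulAut.mul_apply, hinv c hc, map_inv, hinv c hc, inv_inv]
  obtain ⟨k, hk⟩ := exists_pow_eq_one_of_detects hdet hhh
  obtain ⟨j, hj⟩ : Odd (p ^ k) := (hpp.odd_of_ne_two hp2).pow
  set τ := h ^ p ^ k
  have hτC : ∀ c ∈ C, τ c = c⁻¹ := by
    intro c hc
    have e : τ = h * (h * h) ^ j := by rw [show τ = h ^ p ^ k from rfl, hj, pow_succ', pow_mul, sq]
    have hfixj : ∀ n : ℕ, ((h * h) ^ n) c = c := by
      intro n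
      induction n with
      | zero => rfl
      | succ n ih => rw [pow_succ, MulAut.mul_apply, hhh c hc, ih]
    rw [e, MulAut.mul_apply, hfixj, hinv c hc]
  have hτ2 : Function.Involutive τ := fun x => by
    rw [← MulAut.mul_apply, ← (Commute.refl h).mul_pow, hk, MulAut.one_apply]
  have hC' : ∀ a ∈ C.map E.subtype, ∀ b ∈ C.map E.subtype, a * b = b * a := by
    rintro _ ⟨a, ha, rfl⟩ _ ⟨b, hb, rfl⟩
    exact congrArg Subtype.val (hCcomm a ha b hb)
  have hC'p : ∀ a ∈ C.map E.subtype, a ^ p = 1 := by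
    rintro _ ⟨a, ha, rfl⟩
    exact congrArg Subtype.val (hCexp a ha)
  have hC'card : Nat.card (C.map E.subtype) = p ^ 2 := by
    rw [Subgroup.card_map_of_injective E.subtype_injective, hCcard]
  have hΩ1 : ∀ y : E, y ^ p = 1 → y ∈ C := by
    intro y hy
    refine (Subgroup.mem_map_iff_mem E.subtype_injective).1 (mem_of_elementary hr
      ((Subgroup.map_subtype_le C).trans hES') hC' hC'p hC'card (hES' y.2) (congrArg Subtype.val hy) ?_)
    rintro _ ⟨a, ha, rfl⟩
    exact congrArg Subtype.val (hcen' y a ha).symm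
  have hfpf : MonoidHom.FixedPointFree τ := by
    intro x hx
    by_contra hx1
    have hdvd : p ∣ Nat.card (Subgroup.zpowers x) :=
      (((hS.to_le hES').to_subgroup _).card_eq_or_dvd).resolve_left fun h1 => hx1 (by
        rwa [Nat.card_zpowers, orderOf_eq_one_iff] at h1)
    obtain ⟨⟨y, n, rfl⟩, hy⟩ := exists_prime_orderOf_dvd_card' p hdvd
    rw [← Subgroup.orderOf_coe] at hy
    have hyp : (x ^ n) ^ p = 1 := hy ▸ pow_orderOf_eq_one _
    have h2 : τ (x ^ n) = x ^ n := by rw [map_zpow, hx]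
    rw [hτC _ (hΩ1 _ hyp), inv_eq_iff_mul_eq_one, ← pow_two] at h2
    exact hp2 ((Nat.prime_dvd_prime_iff_eq hpp Nat.prime_two).1 (hy ▸ orderOf_dvd_of_pow_eq_one h2))
  have hEcomm : ∀ x y : E, x * y = y * x := fun x y => hfpf.commute_all_of_involutive hτ2 x y
  -- `E = C`
  have hidxE : (frattini ↥E).index ≤ p ^ 2 := by
    let inst : CommGroup E := { (inferInstance : Group E) with mul_comm := hEcomm }
    rw [AbelianRankTwo.frattini_eq_powers (hS.to_le hES')]
    set f : E →* E := powMonoidHom p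
    have h1 := f.range.card_mul_index
    have h2 := f.ker.card_mul_index
    rw [Subgroup.index_ker, ← h1, mul_comm] at h2
    have h3 : Nat.card f.ker = f.range.index := Nat.eq_of_mul_eq_mul_left Nat.card_pos h2
    show f.range.index ≤ p ^ 2
    rw [← h3, ← hCcard]
    exact Nat.card_le_card_of_injective (Subgroup.inclusion fun y hy => hΩ1 y (MonoidHom.mem_ker.1 hy))
      (Subgroup.inclusion_injective _)
  obtain ⟨hexpE, hcardE⟩ : (∀ x : E, x ^ p = 1) ∧ Nat.card E = p ^ 2 := by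
    rcases EssentialAbelian.homocyclic_structure hS hE hEcomm hidxE with h | ⟨h3, -⟩
    · exact h
    · omega
  have hu₁ne : u₁ ≠ 1 := fun h => hu₁1 (Subgroup.mem_bot.2 h)
  have hu₂ne : u₂ ∉ Subgroup.zpowers u₁ := fun h => hu₂1 (Subgroup.mem_sup_right h)
  obtain ⟨co, hco⟩ := exists_coord hEcomm hexpE hcardE hu₁ne hu₂ne
  let v : ZMod p → ZMod p → E := fun a b => u₁ ^ a.val * u₂ ^ b.val
  have hvinj : ∀ {a b a' b' : ZMod p}, v a b = v a' b' → a = a' ∧ b = b' := by
    intro a b a' b' he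
    have h1 : co (Multiplicative.ofAdd ![a, b]) = co (Multiplicative.ofAdd ![a', b']) := by
      rw [hco, hco]; simpa [v] using he
    have h2 := Multiplicative.ofAdd.injective (co.injective h1)
    exact ⟨congrFun h2 0, congrFun h2 1⟩
  have hvsurj : ∀ x : E, ∃ a b, x = v a b := by
    intro x
    obtain ⟨w, rfl⟩ := co.surjective x
    obtain ⟨w, rfl⟩ := Multiplicative.ofAdd.surjective w
    exact ⟨w 0, w 1, hco w⟩
  -- the normalizer
  set N := normalizerIn S E
  have hEN : E ≤ N := le_normalizerIn hES'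
  have : Finite N := finite_of_le (normalizerIn_le E)
  have hfix' : ∀ {g : Ω}, g ∈ N → g * (u₁ : Ω) = u₁ * g := by
    intro g hg
    have h := hfix _ (conjAut_mem_autInducedBy hg.2 hg.1)
    rw [Subgroup.mem_bot, inv_mul_eq_one] at h
    have h' : (u₁ : Ω) = g * u₁ * g⁻¹ := congrArg Subtype.val h
    conv_rhs => rw [h']
    rw [inv_mul_cancel_right]
  have htrans : ∀ {g : Ω}, g ∈ N → ∃ j : ZMod p, g * (u₂ : Ω) = (u₁ : Ω) ^ j.val * u₂ * g := by
    intro g hg
    obtain ⟨k, hk⟩ := (isPGroup_autInducedBy hS E) ⟨_, conjAut_mem_autInducedBy hg.2 hg.1⟩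
    have hmem := mem_lineStab_of_pow hEcomm hexpE hcardE hu₁ne (congrArg Subtype.val hk)
      (Subtype.ext (show g * (u₁ : Ω) * g⁻¹ = u₁ by rw [hfix' hg, mul_inv_cancel_right]))
    obtain ⟨j, hj⟩ := exists_transvection hEcomm hexpE hcardE (pow_eq_one_of_mem_lineStab hexpE hmem)
      hu₁ne hmem.1 u₂
    refine ⟨j, ?_⟩
    have h := congrArg Subtype.val hj
    rw [Subgroup.coe_mul, SubmonoidClass.coe_pow] at h
    rw [← mul_inv_eq_iff_eq_mul]
    exact h
  have hcent : ∀ {g : Ω}, g ∈ N → g * (u₂ : Ω) = u₂ * g → g ∈ E := by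
    intro g hg hg2
    refine hE.1.2 E (isConj_refl F hES') ⟨hg.1, Subgroup.mem_centralizer_iff.2 fun x hx => ?_⟩
    obtain ⟨a, b, hab⟩ := hvsurj ⟨x, hx⟩
    rw [show x = (u₁ : Ω) ^ a.val * (u₂ : Ω) ^ b.val from congrArg Subtype.val hab]
    exact (((show Commute g u₁ from hfix' hg).pow_right _).mul_right ((show Commute g u₂ from hg2).pow_right _)).eq.symm
  have hU1p : (u₁ : Ω) ^ p = 1 := congrArg Subtype.val hu₁p
  have hU2p : (u₂ : Ω) ^ p = 1 := congrArg Subtype.val hu₂p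
  have hU12 : Commute (u₁ : Ω) u₂ := congrArg Subtype.val (hEcomm u₁ u₂)
  have hU1 : (u₁ : Ω) ≠ 1 := fun h => hu₁ne (Subtype.ext h)
  obtain ⟨t₀, ht₀, ht₀E⟩ := Fusion.Alperin.exists_normalizing_not_mem hS hES' hES
  obtain ⟨j₀, hj₀⟩ := htrans ht₀
  have hj₀0 : j₀ ≠ 0 := fun h => ht₀E (hcent ht₀ (by rw [hj₀, h, ZMod.val_zero, pow_zero, one_mul]))
  obtain ⟨t, htN, ht2⟩ : ∃ t ∈ N, t * (u₂ : Ω) = u₁ * u₂ * t := by
    refine ⟨t₀ ^ (j₀⁻¹).val, pow_mem ht₀ _, ?_⟩
    rw [commute_pow_left hj₀ ((show Commute t₀ u₁ from hfix' ht₀).pow_right _).eq, ← pow_val_mul hU1p,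
      mul_inv_cancel₀ hj₀0, ZMod.val_one, pow_one]
  have ht1 : t * (u₁ : Ω) = u₁ * t := hfix' htN
  have hconj : ∀ (n : ℕ) (a b : ZMod p),
      t ^ n * ((v a b : E) : Ω) = ((v (a + n * b) b : E) : Ω) * t ^ n := by
    intro n a b
    have h1 := commute_pow_right (commute_pow_left ht2 ht1 n)
      ((hU12.symm.pow_right n).eq) b.val
    show t ^ n * ((u₁ : Ω) ^ a.val * (u₂ : Ω) ^ b.val) = (u₁ : Ω) ^ (a + n * b).val * (u₂ : Ω) ^ b.val * t ^ n
    rw [← mul_assoc, ((show Commute t u₁ from ht1).pow_pow n a.val).eq, mul_assoc, h1,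
      pow_val_add hU1p, ← pow_mul, pow_natCast_eq hU1p (n * b.val), Nat.cast_mul, ZMod.natCast_zmod_val,
      mul_assoc, mul_assoc, mul_assoc]
  have hdecomp : ∀ g ∈ N, ∃ i : ZMod p, ∃ e : E, g = t ^ i.val * (e : Ω) := by
    intro g hg
    obtain ⟨i, hi⟩ := htrans hg
    refine ⟨i, ⟨(t ^ i.val)⁻¹ * g, hcent (mul_mem (inv_mem (pow_mem htN _)) hg) ?_⟩,
      (mul_inv_cancel_left _ _).symm⟩
    have h1 := commute_pow_left ht2 ht1 i.val
    calc (t ^ i.val)⁻¹ * g * u₂ = (t ^ i.val)⁻¹ * ((u₁ : Ω) ^ i.val * u₂) * g := by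
          rw [mul_assoc, hi]; group
      _ = u₂ * ((t ^ i.val)⁻¹ * g) := by
          rw [show (u₁ : Ω) ^ i.val * u₂ = t ^ i.val * u₂ * (t ^ i.val)⁻¹ by rw [h1, mul_inv_cancel_right]]
          group
  have htuniq : ∀ {i i' : ZMod p} {e e' : E}, t ^ i.val * (e : Ω) = t ^ i'.val * (e' : Ω) → i = i' ∧ e = e' := by
    intro i i' e e' he
    have key : ∀ (i : ZMod p) (e : E),
        t ^ i.val * (e : Ω) * ((v 0 1 : E) : Ω) = ((v i 1 : E) : Ω) * (t ^ i.val * (e : Ω)) := by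
      intro i e
      rw [mul_assoc, show (e : Ω) * ((v 0 1 : E) : Ω) = ((v 0 1 : E) : Ω) * e from
        congrArg Subtype.val (hEcomm e (v 0 1)), ← mul_assoc, hconj, zero_add, ZMod.natCast_zmod_val, mul_one,
        mul_assoc]
    have h1 := key i e
    rw [he, key i' e', mul_left_inj] at h1
    obtain rfl := (hvinj (Subtype.ext h1)).1
    exact ⟨rfl, Subtype.ext (mul_left_cancel he)⟩
  have hNcard : Nat.card N = p ^ 3 := by
    rw [← Nat.card_congr (Equiv.ofBijective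
      (fun q : ZMod p × E => (⟨t ^ q.1.val * (q.2 : Ω), mul_mem (pow_mem htN _) (hEN q.2.2)⟩ : N))
      ⟨fun q q' hq => Prod.ext (htuniq (congrArg Subtype.val hq)).1 (htuniq (congrArg Subtype.val hq)).2,
        fun g => by obtain ⟨i, e, hie⟩ := hdecomp g g.2; exact ⟨(i, e), Subtype.ext hie.symm⟩⟩),
      Nat.card_prod, Nat.card_zmod, hcardE, ← pow_succ']
  have hz : ∀ x : N, (Subgroup.inclusion hEN u₁) * x = x * Subgroup.inclusion hEN u₁ := fun x =>
    Subtype.ext (hfix' x.2).symm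
  have hpowN : ∀ (n : ℕ) (e : E), (t ^ n * (e : Ω)) ^ p = (t ^ p) ^ n := by
    intro n e
    obtain ⟨a, b, rfl⟩ := hvsurj e
    show (t ^ n * ((u₁ : Ω) ^ a.val * (u₂ : Ω) ^ b.val)) ^ p = _
    have hc1 : Commute (t ^ n) ((u₁ : Ω) ^ a.val) := (show Commute t u₁ from ht1).pow_pow _ _
    rw [(hU12.pow_pow a.val b.val).eq, ← mul_assoc,
      (hc1.mul_left (hU12.pow_pow a.val b.val).symm).mul_pow, pow_right_comm (u₁ : Ω) a.val p, hU1p,
      one_pow, mul_one, mul_pow_eq hp2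
        (commute_pow_right (commute_pow_left ht2 ht1 n) (hU12.symm.pow_right n).eq b.val)
        (((show Commute t u₁ from ht1).pow_pow n n).pow_right b.val).eq
        (((hU12.symm.pow_left b.val).pow_right n).pow_right b.val).eq
        (by rw [pow_right_comm, hU2p, one_pow]) (by rw [← pow_mul, ← pow_mul, show n * (b.val * p) = p * (n * b.val) by ring, pow_mul, hU1p, one_pow])]
    exact pow_right_comm t n p
  -- the extension of the torus element
  obtain ⟨η, hη, hη₁, hη₂⟩ := htorus 2 2⁻¹ h22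
  rw [Subgroup.mem_bot, inv_mul_eq_one] at hη₁ hη₂
  have hηv : ∀ a b, η (v a b) = v (2 * a) (2⁻¹ * b) := fun a b => by
    simp only [v, map_mul, map_pow, ← hη₁, ← hη₂, ← pow_val_mul hu₁p, ← pow_val_mul hu₂p]
  have hηF := (mem_autGroup_iff F hES').1 hη
  have hext : N ≤ extender S E (E.subtype.comp η.toMonoidHom) := by
    have ht : t ∈ extender S E (E.subtype.comp η.toMonoidHom) := by
      refine mem_extender_iff.2 ⟨htN.1, htN.2, t ^ (2 * 2), pow_mem htN.1 _, fun x hx => ?_⟩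
      obtain ⟨a, b, hab⟩ := hvsurj x
      have e1 : (⟨t * (x : Ω) * t⁻¹, hx⟩ : E) = v (a + b) b := Subtype.ext (by
        show t * (x : Ω) * t⁻¹ = _
        rw [hab, mul_inv_eq_iff_eq_mul]
        simpa using hconj 1 a b)
      show ((η ⟨t * (x : Ω) * t⁻¹, hx⟩ : E) : Ω) = t ^ (2 * 2) * ((η x : E) : Ω) * (t ^ (2 * 2))⁻¹
      rw [e1, hab, hηv, hηv, hconj, mul_inv_cancel_right]
      congr 2
      push_cast
      calc (2 : ZMod p) * (a + b) = 2 * a + 2 * (2 * 2⁻¹) * b := by rw [h22]; ring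
        _ = _ := by ring
    intro g hg
    obtain ⟨i, e, rfl⟩ := hdecomp g hg
    exact mul_mem (pow_mem ht _) (le_extender F hηF e.2)
  obtain ⟨ψ, hψ, hψe⟩ := exists_ext (fullyNormalized_props hS hF hE.2.1).2 hηF (range_subtype_comp η) hEN hext
  have hψe' : ∀ x : E, ψ (Subgroup.inclusion hEN x) = ((η x : E) : Ω) := hψe
  have hψN : ∀ g : N, ψ g ∈ N := fun g =>
    map_mem_normalizerIn (range_subtype_comp η) hψ hEN hψe g.2.2
  have hψr : ψ.range = N := by
    refine Subgroup.eq_of_le_of_card_ge (by rintro _ ⟨g, rfl⟩; exact hψN g) ?_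
    rw [← Nat.card_congr (MonoidHom.ofInjective (F.injective_of_mem hψ)).toEquiv]
  -- exponent `p`
  have htp : t ^ p = 1 := by
    have htpE : t ^ p ∈ E := hcent (pow_mem htN _) (by
      rw [commute_pow_left ht2 ht1, hU1p, one_mul])
    obtain ⟨a, b, hab⟩ := hvsurj ⟨t ^ p, htpE⟩
    have htab : t ^ p = ((v a b : E) : Ω) := congrArg Subtype.val hab
    have hb : b = 0 := by
      have h1 := hconj 1 a b
      rw [← htab, pow_one, Nat.cast_one, one_mul, ← pow_succ', pow_succ, mul_left_inj, htab] at h1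
      obtain ⟨h1, -⟩ := hvinj (Subtype.ext h1)
      exact left_eq_add.1 h1
    subst hb
    obtain ⟨i, e, hie⟩ := hdecomp _ (hψN ⟨t, htN⟩)
    have hi : i * 2⁻¹ = 2 := by
      have h1 : (⟨t, htN⟩ : N) * Subgroup.inclusion hEN (v 0 1) =
          Subgroup.inclusion hEN (v 1 1) * ⟨t, htN⟩ := Subtype.ext (by
        simpa using hconj 1 0 1)
      have h2 := congrArg ψ h1
      rw [map_mul ψ, map_mul ψ, hψe', hψe', hie, hηv, hηv, mul_zero, mul_one, mul_one, mul_assoc,
        show (e : Ω) * ((v 0 2⁻¹ : E) : Ω) = ((v 0 2⁻¹ : E) : Ω) * e from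
          congrArg Subtype.val (hEcomm e _), ← mul_assoc, hconj, zero_add, ZMod.natCast_zmod_val,
        ← mul_assoc, mul_left_inj, mul_left_inj] at h2
      exact (hvinj (Subtype.ext h2)).1
    have hta : (⟨t, htN⟩ : N) ^ p = Subgroup.inclusion hEN (v a 0) := Subtype.ext htab
    have h2 := congrArg ψ hta
    rw [map_pow, hie, hpowN, htab, hψe', hηv, mul_zero] at h2
    have h3 : (v (a * i) 0 : E) = v (2 * a) 0 := Subtype.ext (by
      rw [← h2]
      simp [v, pow_val_mul hU1p])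
    have hi4 : i = 2 * 2 := by
      calc i = i * 2⁻¹ * 2 := by rw [mul_assoc, inv_mul_cancel₀ w2, mul_one]
        _ = 2 * 2 := by rw [hi]
    have ha : a = 0 := by
      by_contra ha
      obtain ⟨h4, -⟩ := hvinj h3
      rw [hi4, mul_comm, mul_left_inj' ha] at h4
      have : (2 : ZMod p) = 1 := mul_eq_left₀ w2 |>.1 h4
      exact one_ne_zero (show (1 : ZMod p) = 0 by linear_combination this)
    rw [htab, ha]
    simp [v]
  have hexpN : ∀ g : N, g ^ p = 1 := by
    intro g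
    obtain ⟨i, e, hie⟩ := hdecomp g g.2
    refine Subtype.ext ?_
    rw [SubmonoidClass.coe_pow, hie, hpowN, htp, one_pow, OneMemClass.coe_one]
  by_cases hNS : N = S
  · refine hnotE ⟨by rw [← hNS, hNcard], ?_⟩
    rw [← hNS]
    refine ((Nat.dvd_prime hpp).1 (Monoid.exponent_dvd_of_forall_pow_eq_one hexpN)).resolve_left fun h => ?_
    have := Monoid.exp_eq_one_iff.1 h
    have h1 : Nat.card N = 1 := Nat.card_of_subsingleton 1
    rw [hNcard] at h1
    exact (Nat.one_lt_pow three_ne_zero hpp.one_lt).ne' h1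
  -- a fully normalized conjugate
  obtain ⟨Q, hNQ, hQ⟩ := exists_fullyNormalized F (normalizerIn_le (S := S) E)
  have hcardQ : Nat.card Q = p ^ 3 := by rw [← hNcard]; exact (isConj_card hNQ).symm
  obtain ⟨φ, hφ, hφr⟩ := hNQ
  set iso := isoOf hφ hφr
  set z' := iso (Subgroup.inclusion hEN u₁)
  set b' := iso (Subgroup.inclusion hEN u₂)
  let K := Subgroup.zpowers z' ⊔ Subgroup.zpowers b'
  set E' := K.map Q.subtype
  have hconjE' : F.IsConj E E' := by
    refine ⟨φ.comp (Subgroup.inclusion hEN), hom_of_comp F (subtype_mem F hES') hφ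
      (fun x => hEN x.2) fun x => rfl, le_antisymm ?_ ?_⟩
    · rintro _ ⟨x, rfl⟩
      obtain ⟨a, b, rfl⟩ := hvsurj x
      refine ⟨iso (Subgroup.inclusion hEN (v a b)), ?_, rfl⟩
      simp only [v, map_mul, map_pow]
      exact mul_mem (Subgroup.mem_sup_left (pow_mem (Subgroup.mem_zpowers _) _))
        (Subgroup.mem_sup_right (pow_mem (Subgroup.mem_zpowers _) _))
    · simp only [E', K]
      rw [Subgroup.map_sup, MonoidHom.map_zpowers, MonoidHom.map_zpowers, sup_le_iff, Subgroup.zpowers_le,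
        Subgroup.zpowers_le]
      exact ⟨⟨u₁, rfl⟩, ⟨u₂, rfl⟩⟩
  have hE'Q : E' ≤ Q := Subgroup.map_subtype_le K
  have hcard' : Nat.card (normalizerIn S E') ≤ p ^ 3 := hNcard ▸ hE.2.1.2 E' hconjE'
  have hQE' : Q ≤ normalizerIn S E' := by
    have hK : K.Normal := by
      have hKE : K = (E.subgroupOf N).map iso.toMonoidHom := by
        apply le_antisymm
        · rw [sup_le_iff, Subgroup.zpowers_le, Subgroup.zpowers_le]
          exact ⟨⟨_, u₁.2, rfl⟩, ⟨_, u₂.2, rfl⟩⟩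
        · rintro _ ⟨x, hx, rfl⟩
          obtain ⟨a, b, hab⟩ := hvsurj ⟨x, hx⟩
          rw [show x = Subgroup.inclusion hEN (v a b) from
            Subtype.ext (show (x : Ω) = ((v a b : E) : Ω) from congrArg Subtype.val hab)]
          simp only [v, map_mul, map_pow, MulEquiv.coe_toMonoidHom]
          exact mul_mem (Subgroup.mem_sup_left (pow_mem (Subgroup.mem_zpowers _) _))
            (Subgroup.mem_sup_right (pow_mem (Subgroup.mem_zpowers _) _))
      rw [hKE]
      exact (⟨fun x hx g => conj_mem_of_normalizer g.2.2 hx⟩ : (E.subgroupOf N).Normal).map _ iso.surjective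
    intro q hq
    refine ⟨hQ.1 hq, Subgroup.mem_normalizer_iff.2 fun x => ⟨?_, fun hx => ?_⟩⟩
    · rintro ⟨w, hw, rfl⟩
      exact ⟨_, hK.conj_mem w hw ⟨q, hq⟩, rfl⟩
    · obtain ⟨w, hw, hwx⟩ := hx
      refine ⟨⟨q, hq⟩⁻¹ * w * ⟨q, hq⟩⁻¹⁻¹, hK.conj_mem w hw _, ?_⟩
      simp only [Subgroup.coe_subtype, Subgroup.coe_mul, Subgroup.coe_inv] at hwx ⊢
      rw [hwx]; group
  have : Finite (normalizerIn S E') := finite_of_le (normalizerIn_le E')
  have hNE' : normalizerIn S E' = Q := (Subgroup.eq_of_le_of_card_ge hQE' (hcardQ ▸ hcard')).symm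
  have hQc : centralizerIn S Q ≤ Q := fun x hx => hE'Q (hE.1.2 E' hconjE'
    ⟨hx.1, Subgroup.centralizer_le (fun y hy => hE'Q hy) hx.2⟩)
  have hQne : Q ≠ S := fun h => hNS (Subgroup.eq_of_le_of_card_ge (normalizerIn_le E)
    (by rw [← h, hcardQ, hNcard]))
  set ψN : MulAut N := isoOf hψ hψr
  have hψN' : ψN ∈ F.autGroup N := isoOf_mem_autGroup hψ hψr
  refine false_of_extraspecial hS hp hF hr hQ hQc hQne (a := iso ⟨t, htN⟩) (b := b') (z := z')
    ?_ ?_ ?_ (fun x => by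
      obtain ⟨x, rfl⟩ := iso.surjective x
      rw [← map_pow, hexpN, map_one])
    hcardQ ?_ (congr_mem_autGroup hφ hφr hψN') hβ hβ0 ?_
  · intro h
    exact hU1 (congrArg Subtype.val (iso.injective (h.trans (map_one iso).symm)))
  · rw [← map_mul, ← map_mul, ← map_mul]
    exact congrArg iso (Subtype.ext ht2)
  · intro x
    obtain ⟨x, rfl⟩ := iso.surjective x
    rw [← map_mul, ← map_mul, hz]
  · intro g hg hgK
    rw [← hNE']
    refine ⟨hg.1, ?_⟩
    have hle : E'.map (MulAut.conj g).toMonoidHom ≤ E' := by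
      rintro _ ⟨_, ⟨w, hw, rfl⟩, rfl⟩
      exact ⟨_, hgK w hw, rfl⟩
    have : Finite E' := finite_of_le (hE'Q.trans hQ.1)
    have heq : E'.map (MulAut.conj g).toMonoidHom = E' := Subgroup.eq_of_le_of_card_ge hle
      (Subgroup.card_map_of_injective (MulAut.conj g).injective).ge
    refine Subgroup.mem_normalizer_iff.2 fun x => ⟨fun hx => hle ⟨x, hx, rfl⟩, fun hx => ?_⟩
    obtain ⟨y, hy, hyx⟩ := heq.ge hx
    rwa [show x = y from ((MulAut.conj g).injective (by simpa using hyx)).symm]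
  · have hb : ψN (Subgroup.inclusion hEN u₂) = Subgroup.inclusion hEN u₂ ^ (2⁻¹ : ZMod p).val := Subtype.ext (by
      show ψ (Subgroup.inclusion hEN u₂) = (u₂ : Ω) ^ (2⁻¹ : ZMod p).val
      rw [hψe', ← hη₂]
      rfl)
    show (b' ^ (2⁻¹ : ZMod p).val)⁻¹ * iso (ψN (iso.symm b')) ∈ _
    rw [MulEquiv.symm_apply_apply, hb, map_pow, inv_mul_cancel]
    exact Subgroup.one_mem _

end CfsgLib.Fus.RankTwoResistant
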