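import Cfsg.Agent.Fus.RankTwoResistant.Plane
import Cfsg.Agent.Fus.EssentialAbelian
import Cfsg.Agent.Fus.Extension
import Cfsg.Agent.SmallExponentControl.Core

/-!
An essential subgroup with an invariant section of order `p ^ 2` that detects automorphisms has a torus of
`SL(2,p)` in its automizer, in coordinates adapted to `Aut_S`.
-/

set_option autoImplicit false

namespace CfsgLib.Fus.RankTwoResistant

open Cfsg Cfsg.FusionSystem CfsgLib.Fus CfsgLib.Fus.EssentialSmall
open scoped commutatorElement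

/-- Automorphisms preserving a section act on it. -/
theorem exists_action {E : Type*} [Group E] (A : Subgroup (MulAut E)) (C Z0 : Subgroup E) [Z0.Normal]
    (hC : ∀ a ∈ A, ∀ x ∈ C, a x ∈ C) (hZ : ∀ a ∈ A, ∀ x ∈ Z0, a x ∈ Z0) :
    ∃ r : A →* MulAut (C ⧸ Z0.subgroupOf C),
      ∀ (a : A) (c : C), r a c = ((⟨(a : MulAut E) c, hC a a.2 c c.2⟩ : C) : C ⧸ Z0.subgroupOf C) := by
  let f : ∀ a : A, C →* C := fun a =>
    ((a : MulAut E).toMonoidHom.comp C.subtype).codRestrict C fun c => hC a a.2 c c.2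
  let q : ∀ a : A, C ⧸ Z0.subgroupOf C →* C ⧸ Z0.subgroupOf C := fun a =>
    QuotientGroup.map _ _ (f a) fun c hc =>
      Subgroup.mem_subgroupOf.2 (hZ a a.2 c (Subgroup.mem_subgroupOf.1 hc))
  have hq : ∀ (a b : A) x, q (a * b) x = q a (q b x) := by
    intro a b x
    induction x using QuotientGroup.induction_on with
    | H c => rfl
  have hone : ∀ x, q 1 x = x := by
    intro x
    induction x using QuotientGroup.induction_on with
    | H c => rfl
  refine ⟨{ toFun := fun a =>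
              { toFun := q a
                invFun := q a⁻¹
                left_inv := fun x => by rw [← hq, inv_mul_cancel, hone]
                right_inv := fun x => by rw [← hq, mul_inv_cancel, hone]
                map_mul' := map_mul (q a) }
            map_one' := MulEquiv.ext hone
            map_mul' := fun a b => MulEquiv.ext (hq a b) }, fun a c => rfl⟩

variable {Ω : Type*} [Group Ω] {S : Subgroup Ω} [Finite S] {p : ℕ} [Fact p.Prime]
  {F : Cfsg.FusionSystem S} {E : Subgroup Ω}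

/-- The `p`-core of the automizer of an essential subgroup is inner. -/
theorem mem_inn_of_mem_pCore (hE : F.IsEssential p E) {a : F.autGroup E}
    (ha : a ∈ Cfsg.pCore p (F.autGroup E)) : (a : MulAut E) ∈ Cfsg.Inn E := by
  obtain ⟨hc, -, hn, Y, hY⟩ := hE
  have : Finite E := finite_of_le hc.1
  have : Finite (MulAut E) := finite_mulAut E
  set f := QuotientGroup.mk' ((Inn E).subgroupOf (F.autGroup E))
  set Q := (Cfsg.pCore p (F.autGroup E)).map f
  have hQn : Q.Normal := (Cfsg.pCore_normal p _).map f (QuotientGroup.mk'_surjective _)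
  have hQp : IsPGroup p Q := (CharP.isPGroup_pCore (p := p) (G := F.autGroup E)).map f
  obtain ⟨P, -, hloc⟩ := LocalCharP.exists_sylow_le hY
  have hQ : Q = ⊥ := by
    by_contra hne
    have hQP : Q ≤ (P : Subgroup (F.autGroup E ⧸ (Inn E).subgroupOf (F.autGroup E))) :=
      (CharP.le_pCore hQn hQp).trans (CharP.pCore_le_sylow P)
    have h := hloc Q hQP hne
    rw [Subgroup.normalizer_eq_top_iff.2 hQn] at h
    exact hY.2.1 (top_le_iff.1 h)
  have h1 : f a ∈ Q := Subgroup.mem_map_of_mem f ha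
  rw [hQ, Subgroup.mem_bot, QuotientGroup.mk'_apply, QuotientGroup.eq_one_iff,
    Subgroup.mem_subgroupOf] at h1
  exact h1

/-- The automorphisms of a group fixing `e` and acting trivially modulo `⟨e⟩`. -/
def lineStab {R : Type*} [Group R] (e : R) : Subgroup (MulAut R) where
  carrier := {τ | τ e = e ∧ ∀ f, f⁻¹ * τ f ∈ Subgroup.zpowers e}
  one_mem' := ⟨rfl, fun f => by simp⟩
  mul_mem' := by
    rintro a b ⟨ha, ha'⟩ ⟨hb, hb'⟩
    refine ⟨by rw [MulAut.mul_apply, hb, ha], fun f => ?_⟩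
    have e1 : f⁻¹ * a (b f) = (f⁻¹ * b f) * ((b f)⁻¹ * a (b f)) := by group
    rw [MulAut.mul_apply, e1]
    exact mul_mem (hb' f) (ha' _)
  inv_mem' := by
    rintro a ⟨ha, ha'⟩
    refine ⟨?_, fun f => ?_⟩
    · show a.symm e = e
      conv_lhs => rw [← ha]
      exact a.symm_apply_apply e
    · have h := ha' (a.symm f)
      rw [a.apply_symm_apply] at h
      show f⁻¹ * a.symm f ∈ Subgroup.zpowers e
      simpa using inv_mem h

theorem pow_eq_one_of_mem_lineStab {R : Type*} [Group R] (hexp : ∀ x : R, x ^ p = 1) {e : R} {τ : MulAut R}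
    (hτ : τ ∈ lineStab e) : τ ^ p = 1 := by
  refine MulEquiv.ext fun f => ?_
  obtain ⟨k, hk⟩ := hτ.2 f
  have hz : τ (f⁻¹ * τ f) = f⁻¹ * τ f := by
    rw [← hk]
    show τ (e ^ k) = e ^ k
    rw [map_zpow, hτ.1]
  rw [CfsgLib.Fusion.Alperin.pow_fix_mul (mul_inv_cancel_left f (τ f)).symm hz, hexp, mul_one]
  rfl

/-- Coordinates and torus. -/
theorem exists_torus (hS : IsPGroup p S) (hF : F.IsSaturated p) (hE : F.IsEssential p E)
    (C Z0 : Subgroup E) [Z0.Normal] (hC : ∀ a ∈ F.autGroup E, ∀ x ∈ C, a x ∈ C)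
    (hZ : ∀ a ∈ F.autGroup E, ∀ x ∈ Z0, a x ∈ Z0)
    (hab : ∀ a ∈ C, ∀ b ∈ C, ⁅a, b⁆ ∈ Z0) (hpow : ∀ c ∈ C, c ^ p ∈ Z0)
    (hidx : Z0.relIndex C = p ^ 2)
    (hker : ∀ b ∈ F.autGroup E, (∀ x ∈ C, x⁻¹ * b x ∈ Z0) → ∃ k, b ^ p ^ k = 1) :
    (∀ x : E, ∀ c ∈ C, c⁻¹ * (x * c * x⁻¹) ∈ Z0) ∧
    (∀ b ∈ F.autGroup E, (∀ x ∈ C, x⁻¹ * b x ∈ Z0) → b ∈ Cfsg.Inn E) ∧
    ∃ u₁ ∈ C, ∃ u₂ ∈ C, u₁ ∉ Z0 ∧ u₂ ∉ Z0 ⊔ Subgroup.zpowers u₁ ∧
      (∀ a ∈ Cfsg.autInducedBy S E, u₁⁻¹ * a u₁ ∈ Z0) ∧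
      ∀ u w : ZMod p, u * w = 1 → ∃ h ∈ F.autGroup E,
        (u₁ ^ u.val)⁻¹ * h u₁ ∈ Z0 ∧ (u₂ ^ w.val)⁻¹ * h u₂ ∈ Z0 := by
  have hp : p.Prime := Fact.out
  have : Finite E := finite_of_le hE.1.1
  have : Finite (MulAut E) := finite_mulAut E
  obtain ⟨r, hr⟩ := exists_action (F.autGroup E) C Z0 hC hZ
  set R := C ⧸ Z0.subgroupOf C
  have hcardR : Nat.card R = p ^ 2 := hidx
  have : Finite (MulAut R) := Finite.of_injective (fun φ : MulAut R => (φ : R → R)) DFunLike.coe_injective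
  have hcomm : ∀ x y : R, x * y = y * x := by
    intro x y
    obtain ⟨a, rfl⟩ := QuotientGroup.mk'_surjective _ x
    obtain ⟨b, rfl⟩ := QuotientGroup.mk'_surjective _ y
    rw [← commutatorElement_eq_one_iff_mul_comm, ← map_commutatorElement, QuotientGroup.mk'_apply,
      QuotientGroup.eq_one_iff, Subgroup.mem_subgroupOf]
    exact hab a a.2 b b.2
  have hexp : ∀ x : R, x ^ p = 1 := by
    intro x
    obtain ⟨a, rfl⟩ := QuotientGroup.mk'_surjective _ x
    rw [← map_pow, QuotientGroup.mk'_apply, QuotientGroup.eq_one_iff, Subgroup.mem_subgroupOf]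
    exact hpow a a.2
  have hmemker : ∀ b : F.autGroup E, b ∈ r.ker ↔ ∀ x ∈ C, x⁻¹ * (b : MulAut E) x ∈ Z0 := by
    intro b
    rw [MonoidHom.mem_ker]
    constructor
    · intro hb x hx
      have h := hr b ⟨x, hx⟩
      rw [hb, MulAut.one_apply, QuotientGroup.eq, Subgroup.mem_subgroupOf] at h
      exact h
    · intro hb
      refine MulEquiv.ext fun y => ?_
      obtain ⟨c, rfl⟩ := QuotientGroup.mk'_surjective _ y
      show r b c = _
      rw [hr, MulAut.one_apply]
      exact (QuotientGroup.eq.2 (Subgroup.mem_subgroupOf.2 (hb c c.2))).symm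
  have hkerp : IsPGroup p r.ker := fun b => by
    obtain ⟨k, hk⟩ := hker b.1 b.1.2 ((hmemker b.1).1 b.2)
    exact ⟨k, Subtype.ext (Subtype.ext hk)⟩
  have hkerinn : ∀ b ∈ r.ker, (b : MulAut E) ∈ Cfsg.Inn E := fun b hb =>
    mem_inn_of_mem_pCore hE (CharP.le_pCore (MonoidHom.normal_ker r) hkerp hb)
  -- a `p`-subgroup of the image fixes a point, and then lies in its stabilizer
  have hfix : ∀ Q : Subgroup (MulAut R), IsPGroup p Q →
      ∃ e : R, e ≠ 1 ∧ Q ≤ lineStab e := by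
    intro Q hQ
    have h1 : (1 : R) ∈ MulAction.fixedPoints Q R := fun g => map_one (g : MulAut R)
    obtain ⟨e, he, hne⟩ := hQ.exists_fixed_point_of_prime_dvd_card_of_fixed_point R
      (hcardR ▸ dvd_pow_self p two_ne_zero) h1
    refine ⟨e, fun h => hne h.symm, fun τ hτ => ⟨he ⟨τ, hτ⟩, fun f => ?_⟩⟩
    obtain ⟨k, hk⟩ := hQ ⟨τ, hτ⟩
    have hτe : τ e = e := he ⟨τ, hτ⟩
    have hord : orderOf e = p := orderOf_eq_prime (hexp e) (fun h => hne h.symm)
    refine inv_mul_mem_of_relIndex (congrArg Subtype.val hk) ?_ ?_ (fun x _ => Subgroup.mem_top (τ x))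
      (fun x hx => ?_) f (Subgroup.mem_top f)
    · exact ⟨fun x hx g => by
        rwa [show g * x = x * g from Subtype.ext (hcomm g.1 x.1), mul_inv_cancel_right]⟩
    · rw [EssentialRankTwo.relIndex_eq_of_card le_top (m := p)
        (by rw [Subgroup.card_top, hcardR, Nat.card_zpowers, hord, pow_two])]
    · obtain ⟨m, rfl⟩ := hx
      exact ⟨m, by simp [map_zpow, hτe]⟩
  -- no invariant line
  have hline : ∀ e : R, e ≠ 1 → ∃ g : F.autGroup E, r g e ∉ Subgroup.zpowers e := by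
    intro e he
    by_contra hcon
    push Not at hcon
    obtain ⟨P⟩ := Sylow.nonempty (p := p) (G := F.autGroup E)
    apply not_normal_sylow hE P
    have hUp : IsPGroup p ((lineStab e).comap r) := by
      rintro ⟨b, hb⟩
      have h1 : r (b ^ p) = 1 := by rw [map_pow]; exact pow_eq_one_of_mem_lineStab hexp hb
      obtain ⟨k, hk⟩ := hkerp ⟨b ^ p, h1⟩
      refine ⟨k + 1, Subtype.ext ?_⟩
      show b ^ p ^ (k + 1) = 1
      rw [pow_succ', pow_mul]
      exact congrArg Subtype.val hk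
    have hord : orderOf e = p := orderOf_eq_prime (hexp e) he
    have hPU : (P : Subgroup (F.autGroup E)) ≤ (lineStab e).comap r := by
      intro b hb
      obtain ⟨k, hk⟩ := P.isPGroup' ⟨b, hb⟩
      have hk' : r b ^ p ^ k = 1 := by
        rw [← map_pow, show b ^ p ^ k = 1 from congrArg Subtype.val hk, map_one]
      have hinv : ∀ x ∈ Subgroup.zpowers e, r b x ∈ Subgroup.zpowers e := by
        rintro _ ⟨m, rfl⟩
        rw [map_zpow]
        exact zpow_mem (hcon b) m
      refine ⟨?_, fun f => ?_⟩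
      · have h := inv_mul_mem_of_relIndex hk' (N := ⊥) (M := Subgroup.zpowers e) inferInstance
          (by rw [Subgroup.relIndex_bot_left, Nat.card_zpowers, hord]) hinv
          (fun x hx => by rw [Subgroup.mem_bot] at hx ⊢; rw [hx, map_one]) e (Subgroup.mem_zpowers e)
        rw [Subgroup.mem_bot, inv_mul_eq_one] at h
        exact h.symm
      · refine inv_mul_mem_of_relIndex hk' ?_ ?_ (fun x _ => Subgroup.mem_top (r b x)) hinv f
          (Subgroup.mem_top f)
        · exact ⟨fun x hx g => by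
            rwa [show g * x = x * g from Subtype.ext (hcomm g.1 x.1), mul_inv_cancel_right]⟩
        · rw [EssentialRankTwo.relIndex_eq_of_card le_top (m := p)
            (by rw [Subgroup.card_top, hcardR, Nat.card_zpowers, hord, pow_two])]
    have heq : (lineStab e).comap r = (P : Subgroup (F.autGroup E)) := P.is_maximal' hUp hPU
    rw [← heq]
    refine ⟨fun b hb g => ?_⟩
    rw [Subgroup.mem_comap, map_mul, map_mul, map_inv]
    obtain ⟨k, hk⟩ := hcon g⁻¹
    have hk' : (r g).symm e = e ^ k := by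
      rw [map_inv] at hk
      exact hk.symm
    refine ⟨?_, fun f => ?_⟩
    · show r g (r b ((r g).symm e)) = e
      rw [hk', map_zpow, hb.1, ← hk', (r g).apply_symm_apply]
    · show f⁻¹ * r g (r b ((r g).symm f)) ∈ Subgroup.zpowers e
      obtain ⟨m, hm⟩ := hb.2 ((r g).symm f)
      have e1 : f⁻¹ * r g (r b ((r g).symm f)) = r g (((r g).symm f)⁻¹ * r b ((r g).symm f)) := by
        rw [map_mul, map_inv, MulEquiv.apply_symm_apply]
      rw [e1, ← hm]
      show r g (e ^ m) ∈ _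
      rw [map_zpow]
      exact zpow_mem (hcon g) m
  -- inner automorphisms act trivially
  have hinner : ∀ b : F.autGroup E, (b : MulAut E) ∈ Cfsg.Inn E → b ∈ r.ker := by
    intro b hb
    have hK : (Cfsg.Inn E).subgroupOf (F.autGroup E) ≤ Cfsg.pCore p (F.autGroup E) := by
      refine CharP.le_pCore (CfsgLib.SmallExponentControl.normal_inn (F.autGroup E)) ?_
      intro a
      obtain ⟨x, hx⟩ := Subgroup.mem_subgroupOf.1 a.2
      obtain ⟨k, hk⟩ := (hS.to_le hE.1.1) x
      refine ⟨k, Subtype.ext (Subtype.ext ?_)⟩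
      show ((a : F.autGroup E) : MulAut E) ^ p ^ k = 1
      rw [← hx, ← map_pow, hk, map_one]
    by_contra hbk
    set Q := (Cfsg.pCore p (F.autGroup E)).map r
    have hQp : IsPGroup p Q := (CharP.isPGroup_pCore (p := p) (G := F.autGroup E)).map r
    obtain ⟨e, he, hQe⟩ := hfix Q hQp
    have hτ : r b ∈ Q := Subgroup.mem_map_of_mem r (hK hb)
    obtain ⟨g, hg⟩ := hline e he
    apply hg
    -- `r b` fixes exactly the line of `e`
    have hge : r b (r g e) = r g e := by
      have hcon : r (g⁻¹ * b * g) ∈ Q := Subgroup.mem_map_of_mem r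
        (by simpa using (Cfsg.pCore_normal p (F.autGroup E)).conj_mem b (hK hb) g⁻¹)
      have h := (hQe hcon).1
      rw [map_mul, map_mul, map_inv] at h
      exact (MulEquiv.symm_apply_eq _).1 h
    by_contra hne
    refine hbk (MonoidHom.mem_ker.2 (MulEquiv.ext fun f => ?_))
    obtain ⟨c, hc⟩ := EssentialRankTwo.exists_coord hcomm hexp hcardR he hne
    obtain ⟨v, rfl⟩ := c.surjective f
    obtain ⟨v, rfl⟩ := Multiplicative.ofAdd.surjective v
    rw [hc, map_mul, map_pow, map_pow, hge, (hQe hτ).1, MulAut.one_apply]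
  -- the Sylow subgroup `Aut_S(E)`
  obtain ⟨⟨-, P, hP⟩, -⟩ := fullyNormalized_props hS hF hE.2.1
  obtain ⟨e, he, hPe⟩ := hfix ((P : Subgroup (F.autGroup E)).map r) (P.isPGroup'.map r)
  obtain ⟨a, haP, ha⟩ : ∃ a ∈ (P : Subgroup (F.autGroup E)), r a ≠ 1 := by
    by_contra hcon
    push Not at hcon
    apply not_normal_sylow hE P
    have : r.ker = (P : Subgroup (F.autGroup E)) :=
      P.is_maximal' hkerp fun b hb => MonoidHom.mem_ker.2 (hcon b hb)
    rw [← this]
    infer_instance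
  have hra := hPe (Subgroup.mem_map_of_mem r haP)
  obtain ⟨g, hg⟩ := hline e he
  obtain ⟨f, hf, hdiag⟩ := exists_diag hcomm hexp hcardR (X := r.range) ⟨a, rfl⟩ ha
    (pow_eq_one_of_mem_lineStab hexp hra) he hra.1 ⟨g, rfl⟩ hg
  obtain ⟨u₁, rfl⟩ := QuotientGroup.mk'_surjective _ e
  obtain ⟨u₂, rfl⟩ := QuotientGroup.mk'_surjective _ f
  refine ⟨fun x c hc => ?_, fun b hb h => hkerinn ⟨b, hb⟩ ((hmemker _).2 h),
    u₁, u₁.2, u₂, u₂.2, ?_, ?_, ?_, ?_⟩
  · have hx : MulAut.conj x ∈ F.autGroup E := inn_le_autGroup F hE.1.1 ⟨x, rfl⟩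
    exact (hmemker ⟨_, hx⟩).1 (hinner ⟨_, hx⟩ ⟨x, rfl⟩) c hc
  · exact fun h => he ((QuotientGroup.eq_one_iff _).2 (Subgroup.mem_subgroupOf.2 h))
  · intro h
    obtain ⟨z, hz, y, ⟨k, rfl⟩, hy⟩ := Subgroup.mem_sup_of_normal_left.1 h
    refine hf ⟨k, ?_⟩
    show QuotientGroup.mk' (Z0.subgroupOf C) u₁ ^ k = QuotientGroup.mk' (Z0.subgroupOf C) u₂
    rw [← map_zpow, QuotientGroup.mk'_apply, QuotientGroup.mk'_apply, QuotientGroup.eq,
      Subgroup.mem_subgroupOf]
    have e1 : ((u₁ ^ k)⁻¹ * u₂ : C).1 = (u₁ : E) ^ (-k) * z * ((u₁ : E) ^ (-k))⁻¹ := by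
      rw [Subgroup.coe_mul, Subgroup.coe_inv, Subgroup.coe_zpow, ← hy]
      group
    rw [e1]
    exact (inferInstance : Z0.Normal).conj_mem z hz _
  · intro b hb
    have hbA : b ∈ F.autGroup E := autInducedBy_le_autGroup F hE.1.1 hb
    have h : r ⟨b, hbA⟩ ∈ lineStab (QuotientGroup.mk' (Z0.subgroupOf C) u₁) :=
      hPe (Subgroup.mem_map_of_mem r (show (⟨b, hbA⟩ : F.autGroup E) ∈ (P : Subgroup (F.autGroup E)) by
        rw [hP]; exact hb))
    have h1 := h.1
    rw [QuotientGroup.mk'_apply, hr, eq_comm, QuotientGroup.eq, Subgroup.mem_subgroupOf] at h1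
    exact h1
  · intro u w huw
    obtain ⟨_, ⟨h, rfl⟩, he', hf'⟩ := hdiag u w huw
    refine ⟨h, h.2, ?_, ?_⟩
    · rw [QuotientGroup.mk'_apply, hr, ← QuotientGroup.mk_pow, eq_comm, QuotientGroup.eq,
        Subgroup.mem_subgroupOf] at he'
      exact he'
    · rw [QuotientGroup.mk'_apply, hr, ← QuotientGroup.mk_pow, eq_comm, QuotientGroup.eq,
        Subgroup.mem_subgroupOf] at hf'
      exact hf'

end CfsgLib.Fus.RankTwoResistant
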